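import Groth.Agent.Misc1.Dyn.Levi
import Groth.Agent.Hopf.Comod

/-!
# The contracted subgroup: weight grading and unipotence
-/

set_option autoImplicit false
set_option linter.style.haveILetI false

universe u

open LaurentPolynomial TensorProduct WithConv

namespace Groth.Misc1.Dyn

section Grading

open Groth.ComodLib

variable {k : Type u} [Field k] {B : Type u} [CommRing B] [Bialgebra k B]

/-- A bialgebra over a field with a grading by `ℕ`, compatible with the comultiplication and with scalars in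
degree zero, has unipotent comodules. -/
theorem isUnipotent_of_grading (ψ : ℕ → B →ₗ[k] B)
    (h1 : ∀ b, ∃ N, ∀ M ≥ N, ψ M b = 0 ∧ ∑ i ∈ Finset.range M, ψ i b = b)
    (h0 : ∀ b, ψ 0 b = Coalgebra.counit (R := k) b • (1 : B))
    (h2 : ∀ i j b, TensorProduct.map (ψ i) (ψ j) (Coalgebra.comul (R := k) b) =
      TensorProduct.map (ψ i) (ψ j) (Coalgebra.comul (R := k) (ψ (i + j) b))) :
    HopfRep.IsUnipotent k B := by
  classical
  intro V _ _ _ _ _ hbot
  have key : ∀ x : V ⊗[k] B, ∃ N, ∀ M ≥ N,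
      (ψ M).lTensor V x = 0 ∧ ∑ i ∈ Finset.range M, (ψ i).lTensor V x = x := by
    intro x
    induction x using TensorProduct.induction_on with
    | zero => exact ⟨0, fun M _ => by simp⟩
    | tmul v b =>
      obtain ⟨N, hN⟩ := h1 b
      exact ⟨N, fun M hM => ⟨by simp [(hN M hM).1], by simp [← tmul_sum, (hN M hM).2]⟩⟩
    | add x y hx hy =>
      obtain ⟨N, hN⟩ := hx
      obtain ⟨N', hN'⟩ := hy
      refine ⟨max N N', fun M hM => ?_⟩
      obtain ⟨a, b⟩ := hN M (le_trans (le_max_left _ _) hM)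
      obtain ⟨c, d⟩ := hN' M (le_trans (le_max_right _ _) hM)
      simp [map_add, Finset.sum_add_distrib, a, b, c, d]
  obtain ⟨v, hv⟩ := exists_ne (0 : V)
  have hex : ∃ N, ∀ i ≥ N, ∀ α : B →ₗ[k] k, op (α ∘ₗ ψ i) v = 0 := by
    obtain ⟨N, hN⟩ := key (HopfRep.Comod.coact (k := k) (A := B) v)
    refine ⟨N, fun i hi α => ?_⟩
    rw [op_apply, ← slice_lTensor, (hN i hi).1, map_zero]
  have hsum : ∀ (w : V) (β : B →ₗ[k] k), ∃ M, 0 < M ∧
      op β w = ∑ i ∈ Finset.range M, op (β ∘ₗ ψ i) w := by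
    intro w β
    obtain ⟨N, hN⟩ := key (HopfRep.Comod.coact (k := k) (A := B) w)
    refine ⟨N + 1, Nat.succ_pos _, ?_⟩
    have := congrArg (slice (k := k) (A := B) β) (hN (N + 1) (Nat.le_succ _)).2
    rw [map_sum] at this
    rw [op_apply, ← this]
    exact Finset.sum_congr rfl fun i _ => (slice_lTensor β (ψ i) _)
  set N := Nat.find hex with hNdef
  have hN := Nat.find_spec hex
  rw [← hNdef] at hN
  have hNpos : N ≠ 0 := by
    intro h
    obtain ⟨M, -, hM⟩ := hsum v (Coalgebra.counit (R := k) (A := B))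
    rw [op_counit, Finset.sum_eq_zero (fun i _ => hN i (by omega) _)] at hM
    exact hv hM
  obtain ⟨i₀, hi₀, hex'⟩ : ∃ i ≥ N - 1, ∃ α : B →ₗ[k] k, op (α ∘ₗ ψ i) v ≠ 0 := by
    have := Nat.find_min hex (m := N - 1) (by omega)
    push Not at this
    exact this
  obtain ⟨α, hα⟩ := hex'
  set w := op (α ∘ₗ ψ i₀) v with hw
  refine hα ((Submodule.mem_bot k).1 (hbot ▸ ?_))
  show HopfRep.Comod.coact (k := k) (A := B) w = w ⊗ₜ[k] (1 : B)
  refine ext_slice fun β => ?_
  rw [slice_tmul, ← op_apply]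
  obtain ⟨M, hMpos, hM⟩ := hsum w β
  rw [hM, Finset.sum_eq_single 0]
  · rw [show β ∘ₗ ψ 0 = β 1 • (Coalgebra.counit (R := k) (A := B)) from
      LinearMap.ext fun b => by simp [h0, mul_comm], op_apply, slice_smul, ← op_apply, op_counit]
  · intro i _ hi
    have hcomp : (toConv (β ∘ₗ ψ i) * toConv (α ∘ₗ ψ i₀)).ofConv =
        (toConv (β ∘ₗ ψ i) * toConv (α ∘ₗ ψ i₀)).ofConv ∘ₗ ψ (i + i₀) := by
      refine LinearMap.ext fun b => ?_
      simp only [LinearMap.convMul_def, ofConv_toConv, LinearMap.comp_apply, TensorProduct.map_comp, h2 i i₀ b]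
    have h3 := op_mul (toConv (β ∘ₗ ψ i)) (toConv (α ∘ₗ ψ i₀)) v
    simp only at h3
    rw [hw, ← h3, hcomp]
    exact hN _ (by omega) _
  · intro h
    simp [hMpos] at h

end Grading

variable {k : Type u} [CommRing k] {A : Type u} [CommRing A] [HopfAlgebra k A]
  (lam : A →ₐc[k] k[T;T⁻¹])

lemma map_comp_toL {R R' : Type u} [CommRing R] [Algebra k R] [CommRing R'] [Algebra k R'] (f : R →ₐ[k] R') :
    (AddMonoidAlgebra.mapAlgHom ℤ f).comp (toL (k := k) R) =
      (toL (k := k) R').comp (Polynomial.mapAlgHom f) := by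
  refine AlgHom.ext fun p => ?_
  induction p using Polynomial.induction_on' with
  | add p q hp hq => simp only [map_add, hp, hq]
  | monomial n r => simp [← single_eq_C_mul_T]

section Proj
variable {R : Type u} [CommRing R] [Algebra k R]

/-- `T ↦ T S` on polynomials -/
noncomputable def chiP : Polynomial R →ₐ[k] Polynomial (Polynomial R) :=
  (Polynomial.aeval (R := R) (Polynomial.C Polynomial.X * Polynomial.X : Polynomial (Polynomial R))).restrictScalars k

lemma coeff_chiP (p : Polynomial R) (j : ℕ) :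
    (chiP (k := k) p).coeff j = Polynomial.monomial j (p.coeff j) := by
  induction p using Polynomial.induction_on' with
  | add p q hp hq => simp only [map_add, Polynomial.coeff_add, hp, hq]
  | monomial n r =>
    rw [chiP, AlgHom.restrictScalars_apply, Polynomial.aeval_monomial, mul_pow, ← map_pow,
      show algebraMap R (Polynomial (Polynomial R)) r = Polynomial.C (Polynomial.C r) from rfl,
      ← mul_assoc, ← map_mul, Polynomial.coeff_C_mul_X_pow,
      Polynomial.coeff_monomial, Polynomial.C_mul_X_pow_eq_monomial]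
    rcases eq_or_ne n j with rfl | h
    · simp
    · simp [h, Ne.symm h]

lemma toL_comp_chiP : (toL (k := k) (Polynomial R)).comp chiP = chi := by
  refine AlgHom.ext fun p => ?_
  induction p using Polynomial.induction_on' with
  | add p q hp hq => simp only [map_add, hp, hq]
  | monomial n r =>
    simp [chi, chiP, Polynomial.aeval_monomial, LaurentPolynomial.algebraMap_apply]

end Proj

variable (J : Ideal A)
  (hJ : Dyn.Represents k A J (fun R _ _ g => Dyn.LimIsOne k A lam R g))

include hJ in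
/-- The contraction `B → B[T]` on the coordinate ring `B` of the contracted subgroup. -/
theorem exists_contraction : ∃ φ : A ⧸ J →ₐ[k] Polynomial (A ⧸ J),
    (toL (A ⧸ J)).comp (φ.comp (Ideal.Quotient.mkₐ k J)) =
      Dyn.conjOrbit k A lam (A ⧸ J) (Ideal.Quotient.mkₐ k J) ∧
    (∀ a, (φ (Ideal.Quotient.mk J a)).coeff 0 = algebraMap k (A ⧸ J) (Coalgebra.counit a)) ∧
    (∀ b j, φ ((φ b).coeff j) = Polynomial.monomial j ((φ b).coeff j)) ∧
    (∀ b, (φ b).eval 1 = b) := by
  set q := Ideal.Quotient.mkₐ k J with hqdef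
  obtain ⟨h, hh, h0⟩ := (hJ (A ⧸ J) q).1 fun a ha => Ideal.Quotient.eq_zero_iff_mem.2 ha
  have hchi := orb_cst_limit lam q h hh
  have hev : ev0.comp (chiP (k := k)) =
      (IsScalarTower.toAlgHom k (A ⧸ J) (Polynomial (A ⧸ J))).comp ev0 := by
    refine AlgHom.ext fun p => ?_
    simp [ev0, Polynomial.coe_aeval_eq_eval, ← Polynomial.coeff_zero_eq_eval_zero, coeff_chiP]
  have hlim : Dyn.LimIsOne k A lam (Polynomial (A ⧸ J)) h := by
    refine ⟨chiP.comp h, ?_, ?_⟩
    · refine congrArg WithConv.ofConv (Eq.trans ?_ (conjOrbit_eq lam _ h).symm)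
      rw [hchi, ← toL_comp_chiP]
      rfl
    · rw [← AlgHom.comp_assoc, hev, AlgHom.comp_assoc, h0, ← AlgHom.comp_assoc]
      congr 1
  let φ : A ⧸ J →ₐ[k] Polynomial (A ⧸ J) := Ideal.Quotient.liftₐ J h ((hJ _ h).2 hlim)
  have hφ : ∀ a, φ (Ideal.Quotient.mk J a) = h a := fun a => rfl
  refine ⟨φ, hh, fun a => ?_, fun b j => ?_, fun b => ?_⟩
  · have := ((limIsOne_iff lam (A ⧸ J) q).1 ⟨h, hh, h0⟩).2 a
    rw [← hh] at this
    rw [hφ]
    exact ((coeff_toL_zero (k := k) (A ⧸ J) (h a)).symm.trans this)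
  · obtain ⟨a, rfl⟩ := Ideal.Quotient.mk_surjective b
    have key : post (toL (Polynomial (A ⧸ J))) (post (Polynomial.mapAlgHom φ) (toConv h)) =
        post (toL (Polynomial (A ⧸ J))) (post chiP (toConv h)) := by
      rw [post_comp, ← map_comp_toL, ← post_comp,
        show post (toL (k := k) (A ⧸ J)) (toConv h) = conjHom lam (A ⧸ J) (toConv q) by
          rw [← conjOrbit_eq, ← hh]; rfl,
        conjHom_natural, post_comp, toL_comp_chiP, ← hchi]
      rfl
    have := congrArg (fun g : WithConv (A →ₐ[k] Polynomial (Polynomial (A ⧸ J))) => (g.ofConv a).coeff j)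
      (post_injective (toL_injective _) key)
    simpa [coeff_chiP, ← hφ] using! this
  · obtain ⟨a, rfl⟩ := Ideal.Quotient.mk_surjective b
    have h1 := DFunLike.congr_fun (congrArg WithConv.ofConv (post_ev1_conjHom lam (A ⧸ J) (toConv q))) a
    rw [← conjOrbit_eq, ← hh] at h1
    simp only [ofConv_post, AlgHom.comp_apply] at h1
    rw [hφ]
    refine Eq.trans ?_ h1
    induction h a using Polynomial.induction_on' with
    | add p r hp hr => simp only [Polynomial.eval_add, map_add, hp, hr]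
    | monomial n r =>
      simp [ev1, T, ← single_eq_C, -single_eq_C_mul_T]

lemma coeff_contraction_mul {B C : Type u} [CommRing B] [Algebra k B] [CommRing C] [Algebra k C]
    (q : A →ₐ[k] B) (h : A →ₐ[k] Polynomial B) (hh : (toL B).comp h = Dyn.conjOrbit k A lam B q)
    (f f₁ f₂ : B →ₐ[k] C) (hf : post f (toConv q) = post f₁ (toConv q) * post f₂ (toConv q)) (a : A) (n : ℕ) :
    f ((h a).coeff n) = (Algebra.TensorProduct.lmul' k (Algebra.TensorProduct.map
      ((Polynomial.mapAlgHom f₁).comp h) ((Polynomial.mapAlgHom f₂).comp h)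
      (Bialgebra.comulAlgHom k A a))).coeff n := by
  have hh' : post (toL (k := k) B) (toConv h) = conjHom lam B (toConv q) := by
    rw [← conjOrbit_eq, ← hh]; rfl
  have hpush : ∀ (f : B →ₐ[k] C), post (toL C) (post (C' := Polynomial C) (Polynomial.mapAlgHom f)
      (toConv h)) = conjHom lam C (post f (toConv q)) := fun f => by
    rw [post_comp, ← map_comp_toL, ← post_comp, hh', conjHom_natural]
  have key : post (C' := Polynomial C) (Polynomial.mapAlgHom f) (toConv h) =
      post (C' := Polynomial C) (Polynomial.mapAlgHom f₁) (toConv h) *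
        post (C' := Polynomial C) (Polynomial.mapAlgHom f₂) (toConv h) := by
    apply post_injective (toL_injective (k := k) C)
    rw [map_mul, hpush, hpush, hpush, hf, map_mul]
  have := congrArg (fun g : WithConv (A →ₐ[k] Polynomial C) => (g.ofConv a).coeff n) key
  rw [AlgHom.convMul_def] at this
  simp only [ofConv_post, AlgHom.comp_apply] at this
  refine Eq.trans ?_ this
  simp

variable [J.IsHopfIdeal k]

include hJ in
theorem exists_grading : ∃ ψ : ℕ → (A ⧸ J) →ₗ[k] (A ⧸ J),
    (∀ b, ∃ N, ∀ M ≥ N, ψ M b = 0 ∧ ∑ i ∈ Finset.range M, ψ i b = b) ∧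
    (∀ b, ψ 0 b = Coalgebra.counit (R := k) b • (1 : A ⧸ J)) ∧
    (∀ i j b, TensorProduct.map (ψ i) (ψ j) (Coalgebra.comul (R := k) b) =
      TensorProduct.map (ψ i) (ψ j) (Coalgebra.comul (R := k) (ψ (i + j) b))) := by
  obtain ⟨φ, hφ, hφ0, hφφ, hφ1⟩ := exists_contraction lam J hJ
  set q := Ideal.Quotient.mkₐ k J with hqdef
  let ψ : ℕ → (A ⧸ J) →ₗ[k] (A ⧸ J) := fun i =>
    ((Polynomial.lcoeff (A ⧸ J) i).restrictScalars k) ∘ₗ φ.toLinearMap
  have hψ : ∀ i b, ψ i b = (φ b).coeff i := fun i b => rfl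
  have hproj : ∀ i j b, ψ i (ψ j b) = if j = i then ψ j b else 0 := fun i j b => by
    rw [hψ, hψ, hφφ, Polynomial.coeff_monomial]
  refine ⟨ψ, fun b => ⟨(φ b).natDegree + 1, fun M hM => ⟨?_, ?_⟩⟩, fun b => ?_, fun i j b => ?_⟩
  · show (φ b).coeff M = 0
    exact Polynomial.coeff_eq_zero_of_natDegree_lt (by omega)
  · refine Eq.trans ?_ (hφ1 b)
    rw [Polynomial.eval_eq_sum_range' (show (φ b).natDegree < M by omega)]
    simp [hψ]
  · obtain ⟨a, rfl⟩ := Ideal.Quotient.mk_surjective b
    rw [hψ, hφ0, ← Algebra.algebraMap_eq_smul_one]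
    rfl
  -- compatibility with the comultiplication
  let Δ : A ⧸ J →ₐ[k] ((A ⧸ J) ⊗[k] (A ⧸ J)) := Bialgebra.comulAlgHom k (A ⧸ J)
  let i1 : A ⧸ J →ₐ[k] ((A ⧸ J) ⊗[k] (A ⧸ J)) := Algebra.TensorProduct.includeLeft
  let i2 : A ⧸ J →ₐ[k] ((A ⧸ J) ⊗[k] (A ⧸ J)) := Algebra.TensorProduct.includeRight
  have hq2 : post Δ (toConv q) = post i1 (toConv q) * post i2 (toConv q) := by
    refine WithConv.ofConv_injective ?_
    rw [AlgHom.convMul_def]
    simp only [ofConv_post, ← AlgHom.comp_assoc]
    rw [show (Algebra.TensorProduct.lmul' k).comp (Algebra.TensorProduct.map (i1.comp q) (i2.comp q)) =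
      Algebra.TensorProduct.map q q by
        ext x <;> simp [i1, i2]]
    rfl
  have hn : ∀ n, Coalgebra.comul (R := k) (ψ n b) = ∑ p ∈ Finset.HasAntidiagonal.antidiagonal n,
      TensorProduct.map (ψ p.1) (ψ p.2) (Coalgebra.comul (R := k) b) := by
    intro n
    obtain ⟨a, rfl⟩ := Ideal.Quotient.mk_surjective b
    refine Eq.trans (Eq.trans ?_ (coeff_contraction_mul lam q (φ.comp q) hφ Δ i1 i2 hq2 a n)) ?_
    · simp [Δ, hψ, hqdef]
    · change _ = ∑ p ∈ Finset.HasAntidiagonal.antidiagonal n, TensorProduct.map (ψ p.1) (ψ p.2)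
        (Algebra.TensorProduct.map q q (Bialgebra.comulAlgHom k A a))
      induction Bialgebra.comulAlgHom k A a using TensorProduct.induction_on with
      | zero => simp
      | tmul x y => simp [Polynomial.coeff_mul, i1, i2, hψ]
      | add x y hx hy => simp only [map_add, Polynomial.coeff_add, Finset.sum_add_distrib, hx, hy]
  rw [hn (i + j), map_sum, Finset.sum_eq_single (i, j)]
  · induction Coalgebra.comul (R := k) b using TensorProduct.induction_on with
    | zero => simp
    | tmul x y => simp [hproj]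
    | add x y hx hy => simp only [map_add, ← hx, ← hy]
  · rintro ⟨p, r⟩ hp hne
    simp only [Finset.HasAntidiagonal.mem_antidiagonal] at hp
    have : p ≠ i ∨ r ≠ j := by
      by_contra hc; push Not at hc; exact hne (Prod.ext hc.1 hc.2)
    induction Coalgebra.comul (R := k) b using TensorProduct.induction_on with
    | zero => simp
    | tmul x y => rcases this with h | h <;> simp [hproj, h]
    | add x y hx hy => simp only [map_add, hx, hy, add_zero]
  · intro h; simp [Finset.HasAntidiagonal.mem_antidiagonal] at h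

end Groth.Misc1.Dyn
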