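import Groth.Agent.Misc1.Dyn.BigCell
import Groth.Agent.Misc1.Dyn.Unipotent
import Groth.Agent.AlgGrp1.Geom
import Groth.Prelude.Def_CoactBr

/-!
# Connectedness of the contracted subgroup and of the attractor
-/

set_option autoImplicit false
set_option linter.style.haveILetI false

universe u

open TensorProduct WithConv

namespace Groth.Misc1.Dyn

lemma eq_zero_or_one_of_irreducible_openImmersion {A B : Type u} [CommRing A] [CommRing B] (μ : A →+* B)
    [IrreducibleSpace (PrimeSpectrum A)]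
    [AlgebraicGeometry.IsOpenImmersion (AlgebraicGeometry.Spec.map (CommRingCat.ofHom μ))]
    {e : B} (he : IsIdempotentElem e) : e = 0 ∨ e = 1 := by
  by_contra hne
  push Not at hne
  have hopen : Topology.IsOpenEmbedding (PrimeSpectrum.comap μ) :=
    (AlgebraicGeometry.Spec.map (CommRingCat.ofHom μ)).isOpenEmbedding
  have h0 : ∀ x : B, IsIdempotentElem x → x ≠ 0 → (PrimeSpectrum.basicOpen x : Set (PrimeSpectrum B)).Nonempty := by
    intro x hx hx0
    rw [Set.nonempty_iff_ne_empty]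
    intro h
    have hnil : IsNilpotent x := PrimeSpectrum.basicOpen_eq_bot_iff _ |>.1 (SetLike.coe_injective h)
    exact hx0 (hx.eq_zero_of_isNilpotent hnil)
  obtain ⟨p, hp1, hp2⟩ := nonempty_preirreducible_inter
    (hopen.isOpenMap _ (PrimeSpectrum.basicOpen e).2) (hopen.isOpenMap _ (PrimeSpectrum.basicOpen (1 - e)).2)
    ((h0 e he hne.1).image _) ((h0 (1 - e) he.one_sub (sub_ne_zero.2 hne.2.symm)).image _)
  obtain ⟨a, ha, rfl⟩ := hp1
  obtain ⟨b, hb, hab⟩ := hp2
  cases hopen.injective hab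
  have : a ∈ PrimeSpectrum.basicOpen (e * (1 - e)) := by
    rw [PrimeSpectrum.basicOpen_mul]; exact ⟨ha, hb⟩
  rw [mul_sub, mul_one, he.eq, sub_self, PrimeSpectrum.basicOpen_zero] at this
  exact this

lemma preconnectedSpace_of_idem {A : Type u} [CommRing A]
    (h : ∀ e : A, IsIdempotentElem e → e = 0 ∨ e = 1) : PreconnectedSpace (PrimeSpectrum A) := by
  refine preconnectedSpace_iff_clopen.2 fun s hs => ?_
  obtain ⟨e, he, rfl⟩ := PrimeSpectrum.isClopen_iff.1 hs
  rcases h e he with rfl | rfl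
  · left; simp
  · right; simp

variable {k : Type u} [Field k] {A : Type u} [CommRing A] [HopfAlgebra k A]
  (lam : A →ₐc[k] LaurentPolynomial k)

lemma exists_negParam : ∃ lamNeg : A →ₐc[k] LaurentPolynomial k,
    (lamNeg : A →ₐ[k] LaurentPolynomial k) = Dyn.negParam k A lam := by
  refine ⟨(AddMonoidAlgebra.mapDomainBialgHom k (negAddMonoidHom : ℤ →+ ℤ)).comp lam, AlgHom.ext fun a => ?_⟩
  change AddMonoidAlgebra.mapDomainBialgHom k (negAddMonoidHom : ℤ →+ ℤ) (lam a) =
    LaurentPolynomial.invert (lam a)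
  induction (lam a : LaurentPolynomial k) using LaurentPolynomial.induction_on' with
  | add p q hp hq => rw [map_add, map_add, hp, hq]
  | C_mul_T m r =>
    rw [← LaurentPolynomial.single_eq_C_mul_T]
    simp [-LaurentPolynomial.single_eq_C_mul_T, LaurentPolynomial.invert, AddMonoidAlgebra.domCongr_single]

theorem idem_limIsOne (Ju : Ideal A) [Ju.IsHopfIdeal k]
    (hu : Dyn.Represents k A Ju (fun R _ _ g => Dyn.LimIsOne k A lam R g)) (e : A ⧸ Ju)
    (he : IsIdempotentElem e) : e = 0 ∨ e = 1 := by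
  obtain ⟨φ, -, hφ0, -, hφ1⟩ := exists_contraction lam Ju hu
  have hzero : ∀ P : Polynomial (A ⧸ Ju), IsIdempotentElem P → P.coeff 0 = 0 → P = 0 := by
    intro P hP hP0
    ext d
    have hdvd : Polynomial.X ^ (d + 1) ∣ P := by
      rw [← hP.pow_succ_eq d]
      exact pow_dvd_pow_of_dvd (Polynomial.X_dvd_iff.2 hP0) _
    rw [Polynomial.coeff_zero]
    exact Polynomial.X_pow_dvd_iff.1 hdvd d (Nat.lt_succ_self d)
  obtain ⟨a, rfl⟩ := Ideal.Quotient.mk_surjective e
  have hc : IsIdempotentElem (Coalgebra.counit (R := k) a) := by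
    have hmem : a * a - a ∈ Ju := Ideal.Quotient.eq.1 (by rw [map_mul]; exact he.eq)
    have h2 : Coalgebra.counit (R := k) (a * a - a) = 0 :=
      Ideal.IsHopfIdeal.toIsCoideal.counit_eq_zero hmem
    rw [map_sub, ← Bialgebra.counitAlgHom_apply, map_mul, sub_eq_zero] at h2
    exact h2
  rcases IsIdempotentElem.iff_eq_zero_or_one.1 hc with h | h
  · left
    have hP : φ (Ideal.Quotient.mk Ju a) = 0 := hzero _ (he.map φ) (by rw [hφ0, h, map_zero])
    rw [← hφ1 (Ideal.Quotient.mk Ju a), hP, Polynomial.eval_zero]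
  · right
    have hP : 1 - φ (Ideal.Quotient.mk Ju a) = 0 :=
      hzero _ (he.map φ).one_sub (by rw [Polynomial.coeff_sub, Polynomial.coeff_one_zero, hφ0, h, map_one, sub_self])
    rw [← hφ1 (Ideal.Quotient.mk Ju a), ← sub_eq_zero.1 hP, Polynomial.eval_one]

open AlgebraicGeometry in
theorem idem_limExists [Algebra.FiniteType k A] (Jp : Ideal A) [Jp.IsHopfIdeal k]
    (hp : Dyn.Represents k A Jp (fun R _ _ g => Dyn.LimExists k A lam R g))
    (hA : ∀ e : A, IsIdempotentElem e → e = 0 ∨ e = 1) (e : A ⧸ Jp) (he : IsIdempotentElem e) :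
    e = 0 ∨ e = 1 := by
  obtain ⟨n, ⟨W⟩⟩ := exists_wcoord lam
  obtain ⟨lamNeg, hneg⟩ := exists_negParam lam
  haveI := isHopfIdeal_oneI lamNeg
  haveI hoi := isOpenImmersion_cell W lamNeg hneg Jp (oneI lamNeg) hp (represents_oneI lamNeg)
  haveI : Nontrivial A := RingHom.domain_nontrivial (Bialgebra.counitAlgHom k A).toRingHom
  haveI := preconnectedSpace_of_idem hA
  haveI : ConnectedSpace (CoactBr.sp k A).left :=
    ({ toNonempty := inferInstance } : ConnectedSpace (PrimeSpectrum A))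
  haveI : LocallyOfFiniteType (CoactBr.sp k A).hom :=
    (HasRingHomProperty.Spec_iff (P := @LocallyOfFiniteType)).2 (RingHom.finiteType_algebraMap.2 inferInstance)
  haveI : QuasiCompact (CoactBr.sp k A).hom :=
    inferInstanceAs (QuasiCompact (Spec.map (CommRingCat.ofHom (algebraMap k A))))
  haveI hirr : IrreducibleSpace (PrimeSpectrum A) :=
    Groth.AlgGrp1.irreducibleSpace_of_connected (CoactBr.sp k A)
  let r : (A ⧸ oneI lamNeg) ⊗[k] (A ⧸ Jp) →ₐ[k] A ⧸ Jp :=
    Algebra.TensorProduct.lift ((Algebra.ofId k _).comp (Bialgebra.counitAlgHom k (A ⧸ oneI lamNeg)))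
      (AlgHom.id k _) (fun _ _ => Commute.all _ _)
  have hr : r (1 ⊗ₜ e) = e := by simp [r]
  have h1 := eq_zero_or_one_of_irreducible_openImmersion
    ((Algebra.TensorProduct.map (Ideal.Quotient.mkₐ k (oneI lamNeg)) (Ideal.Quotient.mkₐ k Jp)).comp
      (Bialgebra.comulAlgHom k A)).toRingHom
    (he.map (Algebra.TensorProduct.includeRight (R := k) (A := A ⧸ oneI lamNeg)))
  rw [Algebra.TensorProduct.includeRight_apply] at h1
  rcases h1 with h | h
  · left; rw [← hr, h, map_zero]
  · right; rw [← hr, h, map_one]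

end Groth.Misc1.Dyn
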