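import Groth.Agent.Misc1.Dyn.Parabolic
import Mathlib.AlgebraicGeometry.Morphisms.OpenImmersion

/-!
# The open cell of a one-parameter subgroup
-/

set_option autoImplicit false
set_option linter.style.haveILetI false

universe u

open TensorProduct WithConv

namespace Groth.Misc1.Dyn

variable {k : Type u} [Field k] {A : Type u} [CommRing A] [HopfAlgebra k A]
  {lam : A →ₐc[k] LaurentPolynomial k} {n : ℕ} (W : WCoord lam n) {R : Type u} [CommRing R]

lemma IsUniLowerW.mul {U V : Matrix (Fin n) (Fin n) R} (hU : IsUniLowerW W U) (hV : IsUniLowerW W V) :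
    IsUniLowerW W (U * V) := by
  intro i l hil
  rw [Matrix.mul_apply, Finset.sum_eq_single i]
  · rw [hU i i (lt_irrefl _), Matrix.one_apply_eq, one_mul, hV i l hil]
  · intro m _ hm
    by_cases him : W.w i < W.w m
    · rw [hV m l (fun h => hil (him.trans h)), Matrix.one_apply_ne (fun e : m = l => hil (e ▸ him)), mul_zero]
    · rw [hU i m him, Matrix.one_apply_ne (Ne.symm hm), zero_mul]
  · simp

lemma IsUniLowerW.inv {U : Matrix (Fin n) (Fin n) R} (hU : IsUniLowerW W U) : IsUniLowerW W U⁻¹ := by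
  have hdet : IsUnit U.det := by rw [hU.det_eq_one]; exact isUnit_one
  have hbt : U.BlockTriangular W.w := fun i j h => by
    rw [hU i j (not_lt.2 h.le), Matrix.one_apply_ne]
    rintro rfl
    exact lt_irrefl _ h
  haveI : Invertible U := U.invertibleOfIsUnitDet hdet
  have hbt' := Matrix.blockTriangular_inv_of_blockTriangular hbt
  intro i l hil
  have h1 := congrFun (congrFun (Matrix.mul_nonsing_inv U hdet) i) l
  rw [Matrix.mul_apply, Finset.sum_eq_single i, hU i i (lt_irrefl _), Matrix.one_apply_eq, one_mul] at h1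
  · exact h1
  · intro m _ hm
    by_cases him : W.w i < W.w m
    · rw [hbt' (show W.w l < W.w m by omega), mul_zero]
    · rw [hU i m him, Matrix.one_apply_ne (Ne.symm hm), zero_mul]
  · simp

lemma IsUpperW.mul {P Q : Matrix (Fin n) (Fin n) R} (hP : IsUpperW W P) (hQ : IsUpperW W Q) :
    IsUpperW W (P * Q) :=
  fun i j h => Matrix.BlockTriangular.mul (b := fun i => -W.w i)
    (fun a b hab => hP a b (by simpa using hab)) (fun a b hab => hQ a b (by simpa using hab)) (by simpa using h)

/-- the factors of a product are unique -/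
lemma decomp_unique {U U' P P' : Matrix (Fin n) (Fin n) R} (hU : IsUniLowerW W U) (hU' : IsUniLowerW W U')
    (hP : IsUpperW W P) (hP' : IsUpperW W P') (hdet : IsUnit P.det) (h : U * P = U' * P') :
    U = U' ∧ P = P' := by
  have hd' : IsUnit U'.det := by rw [hU'.det_eq_one]; exact isUnit_one
  have hN : U'⁻¹ * U = P' * P⁻¹ := by
    calc U'⁻¹ * U = U'⁻¹ * (U * P) * P⁻¹ := by
            rw [Matrix.mul_assoc, Matrix.mul_assoc, Matrix.mul_nonsing_inv P hdet, mul_one]
      _ = P' * P⁻¹ := by rw [h, ← Matrix.mul_assoc U'⁻¹, Matrix.nonsing_inv_mul U' hd', one_mul]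
  have h1 : U'⁻¹ * U = 1 := by
    ext i j
    by_cases hij : W.w i < W.w j
    · rw [hN, (hP'.mul W (hP.inv W hdet)) i j hij, Matrix.one_apply_ne]
      rintro rfl
      exact lt_irrefl _ hij
    · exact (hU'.inv W).mul W hU i j hij
  have hUU : U = U' := by
    have := congrArg (U' * ·) h1
    simpa [← Matrix.mul_assoc, Matrix.mul_nonsing_inv U' hd'] using this
  refine ⟨hUU, ?_⟩
  subst hUU
  have := congrArg (U⁻¹ * ·) h
  simpa [← Matrix.mul_assoc, Matrix.nonsing_inv_mul U hd'] using this

/-- the block of rows and columns of weight above that of `i` -/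
def upBlock (M : Matrix (Fin n) (Fin n) R) (i : Fin n) :
    Matrix {l // W.w i < W.w l} {l // W.w i < W.w l} R := M.submatrix (↑) (↑)

lemma sum_up (i : Fin n) (F : Fin n → R) (hF : ∀ l, ¬W.w i < W.w l → F l = 0) :
    ∑ l : {l // W.w i < W.w l}, F l = ∑ l, F l := by
  classical
  rw [← Finset.sum_subtype (Finset.univ.filter fun l => W.w i < W.w l) (fun x => by simp) F,
    Finset.sum_filter]
  exact Finset.sum_congr rfl fun l _ => by
    split_ifs with h
    · rfl
    · exact (hF l h).symm

lemma isUnit_det_upBlock {U P : Matrix (Fin n) (Fin n) R} (hU : IsUniLowerW W U) (hP : IsUpperW W P)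
    (hdet : IsUnit P.det) (i : Fin n) : IsUnit (upBlock W (U * P) i).det := by
  classical
  have h1 : upBlock W (U * P) i * upBlock W P⁻¹ i = upBlock W U i := by
    ext ⟨a, ha⟩ ⟨b, hb⟩
    rw [Matrix.mul_apply]
    simp only [upBlock, Matrix.submatrix_apply]
    rw [sum_up W i (fun l => (U * P) a l * P⁻¹ l b) fun l hl => by
      rw [(hP.inv W hdet) l b (by omega), mul_zero], ← Matrix.mul_apply, Matrix.mul_assoc,
      Matrix.mul_nonsing_inv P hdet, mul_one]
  have h2 : (upBlock W U i).det = 1 := by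
    have hbt : (upBlock W U i).BlockTriangular (W.w ∘ (↑)) := fun a b h => by
      simp only [upBlock, Matrix.submatrix_apply]
      rw [hU _ _ (not_lt.2 (le_of_lt h)), Matrix.one_apply_ne]
      intro e
      exact lt_irrefl (W.w a) (by simpa [Function.comp, e] using h)
    rw [hbt.det]
    refine Finset.prod_eq_one fun a _ => ?_
    rw [show (upBlock W U i).toSquareBlock _ a = 1 from ?_, Matrix.det_one]
    ext ⟨x, hx⟩ ⟨y, hy⟩
    rw [Matrix.toSquareBlock_def]
    simp only [Matrix.of_apply, upBlock, Matrix.submatrix_apply]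
    rw [hU _ _ (by
      simp only [Function.comp] at hx hy
      rw [hx, hy]; exact lt_irrefl _)]
    simp [Matrix.one_apply, Subtype.ext_iff]
  exact IsUnit.of_mul_eq_one _ ((Matrix.det_mul _ _).symm.trans ((congrArg Matrix.det h1).trans h2))

lemma exists_decomp (M : Matrix (Fin n) (Fin n) R) (h : ∀ i, IsUnit (upBlock W M i).det) :
    ∃ U P : Matrix (Fin n) (Fin n) R, IsUniLowerW W U ∧ IsUpperW W P ∧ M = U * P := by
  classical
  let v : ∀ i, {l // W.w i < W.w l} → R := fun i =>
    Matrix.vecMul (fun l : {l // W.w i < W.w l} => -M i l) (upBlock W M i)⁻¹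
  let V : Matrix (Fin n) (Fin n) R := fun i l =>
    if hl : W.w i < W.w l then v i ⟨l, hl⟩ else (1 : Matrix (Fin n) (Fin n) R) i l
  have hV : IsUniLowerW W V := fun i l hl => dif_neg hl
  refine ⟨V⁻¹, V * M, hV.inv W, fun i j hij => ?_, ?_⟩
  · rw [Matrix.mul_apply, ← Finset.add_sum_erase _ _ (Finset.mem_univ i), hV i i (lt_irrefl _),
      Matrix.one_apply_eq, one_mul]
    have hsum : ∑ l ∈ Finset.univ.erase i, V i l * M l j = Matrix.vecMul (v i) (upBlock W M i) ⟨j, hij⟩ := by
      rw [show Matrix.vecMul (v i) (upBlock W M i) ⟨j, hij⟩ =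
        ∑ l : {l // W.w i < W.w l}, V i l * M l j by
          simp only [Matrix.vecMul, dotProduct]
          exact Finset.sum_congr rfl fun l _ => by simp [V, dif_pos l.2, upBlock]]
      rw [← Finset.sum_subtype ((Finset.univ.erase i).filter fun l => W.w i < W.w l)
        (fun x => by simpa using fun (h : W.w i < W.w x) (e : x = i) => lt_irrefl (W.w i) (by simp [e] at h)) (fun l => V i l * M l j),
        Finset.sum_filter]
      refine Finset.sum_congr rfl fun l hl => ?_
      split_ifs with hil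
      · rfl
      · rw [hV i l hil, Matrix.one_apply_ne (Finset.ne_of_mem_erase hl).symm, zero_mul]
    rw [hsum, Matrix.vecMul_vecMul, Matrix.nonsing_inv_mul _ (h i), Matrix.vecMul_one]
    exact add_neg_cancel _
  · rw [← Matrix.mul_assoc, Matrix.nonsing_inv_mul V (by rw [hV.det_eq_one]; exact isUnit_one), one_mul]

/-- the equation of the boundary of the open cell -/
noncomputable def cellEq : A := ∏ i, (upBlock W W.c i).det

lemma map_cellEq [Algebra k R] (g : WithConv (A →ₐ[k] R)) :
    g.ofConv (cellEq W) = ∏ i, (upBlock W (matOf W g) i).det := by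
  rw [cellEq, map_prod]
  exact Finset.prod_congr rfl fun i _ => AlgHom.map_det _ _

include W in
open AlgebraicGeometry in
/-- The multiplication from the opposite contracted subgroup times the attractor is an open immersion. -/
theorem isOpenImmersion_cell [Algebra.FiniteType k A] (lamNeg : A →ₐc[k] LaurentPolynomial k)
    (hneg : (lamNeg : A →ₐ[k] LaurentPolynomial k) = Dyn.negParam k A lam) (Jp Jm : Ideal A)
    (hp : Dyn.Represents k A Jp (fun R _ _ g => Dyn.LimExists k A lam R g))
    (hm : Dyn.Represents k A Jm (fun R _ _ g => Dyn.LimIsOne k A lamNeg R g)) :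
    IsOpenImmersion (Spec.map (CommRingCat.ofHom
      ((Algebra.TensorProduct.map (Ideal.Quotient.mkₐ k Jm) (Ideal.Quotient.mkₐ k Jp)).comp
        (Bialgebra.comulAlgHom k A)).toRingHom)) := by
  classical
  set μ := (Algebra.TensorProduct.map (Ideal.Quotient.mkₐ k Jm) (Ideal.Quotient.mkₐ k Jp)).comp
    (Bialgebra.comulAlgHom k A) with hμdef
  let iL : A ⧸ Jm →ₐ[k] (A ⧸ Jm) ⊗[k] (A ⧸ Jp) := Algebra.TensorProduct.includeLeft
  let iR : A ⧸ Jp →ₐ[k] (A ⧸ Jm) ⊗[k] (A ⧸ Jp) := Algebra.TensorProduct.includeRight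
  let q1 := toConv (iL.comp (Ideal.Quotient.mkₐ k Jm))
  let q2 := toConv (iR.comp (Ideal.Quotient.mkₐ k Jp))
  have hμ : q1 * q2 = toConv μ := by
    apply WithConv.ofConv_injective
    rw [AlgHom.convMul_def, ofConv_toConv, ofConv_toConv, hμdef, ← AlgHom.comp_assoc]
    congr 1
    ext <;> simp [q1, q2, iL, iR]
  have hU1 : IsUniLowerW W (matOf W q1) := (isUniLowerW_iff W hneg).2 ((hm _ q1.ofConv).1 fun a ha => by
    simp [q1, Ideal.Quotient.eq_zero_iff_mem.2 ha])
  have hP2 : IsUpperW W (matOf W q2) := (isUpperW_iff W).2 ((hp _ q2.ofConv).1 fun a ha => by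
    simp [q2, Ideal.Quotient.eq_zero_iff_mem.2 ha])
  have hdet2 := isUnit_det_matOf W q2
  set f := cellEq W
  have hf : IsUnit (μ f) := by
    rw [show μ f = (q1 * q2).ofConv f by rw [hμ], map_cellEq, matOf_mul]
    exact IsUnit.prod_univ_iff.2 fun i => isUnit_det_upBlock W hU1 hP2 hdet2 i
  let g₀ : WithConv (A →ₐ[k] Localization.Away f) := toConv (IsScalarTower.toAlgHom k A (Localization.Away f))
  have hblock : ∀ i, IsUnit (upBlock W (matOf W g₀) i).det := by
    refine IsUnit.prod_univ_iff.1 ?_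
    rw [← map_cellEq]
    exact IsLocalization.Away.algebraMap_isUnit f
  obtain ⟨U, P, hU, hP, hM⟩ := exists_decomp W (matOf W g₀) hblock
  obtain ⟨u, p, hu, hpP⟩ := exists_points_of_decomp W g₀ U P hU hP hM
  have hum : ∀ a ∈ Jm, u.ofConv a = 0 :=
    (hm _ u.ofConv).2 ((isUniLowerW_iff W hneg).1 (hu ▸ hU))
  have hpp : ∀ a ∈ Jp, p.ofConv a = 0 :=
    (hp _ p.ofConv).2 ((isUpperW_iff W).1 (hpP ▸ hP))
  let ψ : (A ⧸ Jm) ⊗[k] (A ⧸ Jp) →ₐ[k] Localization.Away f :=
    Algebra.TensorProduct.lift (Ideal.Quotient.liftₐ Jm u.ofConv hum) (Ideal.Quotient.liftₐ Jp p.ofConv hpp)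
      (fun _ _ => Commute.all _ _)
  have hψ1 : post ψ q1 = u := WithConv.ofConv_injective (AlgHom.ext fun a => by simp [q1, iL, ψ])
  have hψ2 : post ψ q2 = p := WithConv.ofConv_injective (AlgHom.ext fun a => by simp [q2, iR, ψ])
  have hψμ : post ψ (toConv μ) = g₀ := by
    rw [← hμ, map_mul, hψ1, hψ2]
    exact matOf_injective W (by rw [matOf_mul, hu, hpP, hM])
  letI : Algebra A ((A ⧸ Jm) ⊗[k] (A ⧸ Jp)) := μ.toRingHom.toAlgebra
  let φ : Localization.Away f →+* (A ⧸ Jm) ⊗[k] (A ⧸ Jp) := IsLocalization.Away.lift f (g := μ.toRingHom) hf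
  have hφ : ∀ a, φ (algebraMap A (Localization.Away f) a) = μ a := fun a =>
    IsLocalization.Away.lift_eq f hf a
  let φk : Localization.Away f →ₐ[k] (A ⧸ Jm) ⊗[k] (A ⧸ Jp) :=
    { φ with
      commutes' := fun r => by
        show φ (algebraMap k (Localization.Away f) r) = _
        rw [IsScalarTower.algebraMap_apply k A (Localization.Away f), hφ, μ.commutes] }
  have hkey : φk.comp ψ = AlgHom.id k _ := by
    have e : matOf W (post φk u) * matOf W (post φk p) = matOf W q1 * matOf W q2 := by
      rw [← matOf_mul, ← map_mul, ← matOf_mul, hμ,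
        show u * p = g₀ by rw [← hψ1, ← hψ2, ← map_mul, hμ, hψμ]]
      congr 1
      exact WithConv.ofConv_injective (AlgHom.ext fun a => hφ a)
    obtain ⟨e1, e2⟩ := decomp_unique W
      ((isUniLowerW_iff W hneg).2 ((hm _ _).1 fun a ha => by simp [hum a ha]))
      hU1 ((isUpperW_iff W).2 ((hp _ _).1 fun a ha => by simp [hpp a ha])) hP2
      (isUnit_det_matOf W _) e
    have e1' := matOf_injective W e1
    have e2' := matOf_injective W e2
    refine Algebra.TensorProduct.ext (Ideal.Quotient.algHom_ext k (AlgHom.ext fun a => ?_))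
      (Ideal.Quotient.algHom_ext k (AlgHom.ext fun a => ?_))
    · have := DFunLike.congr_fun (congrArg WithConv.ofConv e1') a
      simpa [q1, iL, ψ] using! this
    · have := DFunLike.congr_fun (congrArg WithConv.ofConv e2') a
      simpa [q2, iR, ψ] using! this
  have hkey' : ψ.toRingHom.comp φ = RingHom.id _ :=
    IsLocalization.ringHom_ext (Submonoid.powers f) (RingHom.ext fun a => by
      have := DFunLike.congr_fun (congrArg WithConv.ofConv hψμ) a
      simpa [hφ, g₀] using! this)
  let e : Localization.Away f ≃ₐ[A] (A ⧸ Jm) ⊗[k] (A ⧸ Jp) :=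
    AlgEquiv.ofRingEquiv (f := RingEquiv.ofRingHom φ ψ.toRingHom
      (RingHom.ext fun b => DFunLike.congr_fun hkey b) hkey') hφ
  haveI : IsLocalization.Away f ((A ⧸ Jm) ⊗[k] (A ⧸ Jp)) :=
    IsLocalization.isLocalization_of_algEquiv (Submonoid.powers f) e
  exact IsOpenImmersion.of_isLocalization f

end Groth.Misc1.Dyn
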