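import Mathlib.RingTheory.MvPolynomial.Basic
import Mathlib.Algebra.MvPolynomial.CommRing
import Mathlib.RingTheory.MvPolynomial.WeightedHomogeneous
import Mathlib.RingTheory.OrzechProperty
import Mathlib.RingTheory.FiniteType

/-!
# The bounded-degree weight filtration of a polynomial ring
-/

set_option autoImplicit false

universe u v

open MvPolynomial

namespace Groth.Misc1.Dyn

variable {σ : Type v} {R : Type u} [CommRing R] (w : σ → ℤ)

/-- polynomials of degree at most `a` all of whose monomials have weight at least `b` -/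
noncomputable def Fil (R : Type u) [CommRing R] (a : ℕ) (b : ℤ) : Submodule R (MvPolynomial σ R) :=
  MvPolynomial.restrictSupport R {α | α.degree ≤ a ∧ b ≤ Finsupp.weight w α}

lemma mem_Fil {a : ℕ} {b : ℤ} {x : MvPolynomial σ R} :
    x ∈ Fil w R a b ↔ ∀ α, coeff α x ≠ 0 → α.degree ≤ a ∧ b ≤ Finsupp.weight w α := by
  rw [Fil, mem_restrictSupport_iff]
  simp [Set.subset_def, mem_support_iff]

lemma Fil_mono {a a' : ℕ} {b b' : ℤ} (ha : a ≤ a') (hb : b' ≤ b) : Fil w R a b ≤ Fil w R a' b' :=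
  fun x hx => (mem_Fil w).2 fun α hα =>
    ⟨((mem_Fil w).1 hx α hα).1.trans ha, hb.trans ((mem_Fil w).1 hx α hα).2⟩

lemma monomial_mem_Fil {a : ℕ} {b : ℤ} {α : σ →₀ ℕ} (r : R) (ha : α.degree ≤ a)
    (hb : b ≤ Finsupp.weight w α) : monomial α r ∈ Fil w R a b := by
  classical
  rw [mem_Fil]
  intro β hβ
  rw [coeff_monomial] at hβ
  split_ifs at hβ with h
  · exact h ▸ ⟨ha, hb⟩
  · exact absurd rfl hβ

lemma mul_mem_Fil {a a' : ℕ} {b b' : ℤ} {x y : MvPolynomial σ R} (hx : x ∈ Fil w R a b)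
    (hy : y ∈ Fil w R a' b') : x * y ∈ Fil w R (a + a') (b + b') := by
  classical
  rw [mem_Fil] at *
  intro α hα
  obtain ⟨β, hβ, γ, hγ, rfl⟩ := Finset.mem_add.1 (support_mul x y (mem_support_iff.2 hα))
  rw [mem_support_iff] at hβ hγ
  rw [map_add Finsupp.degree, map_add (Finsupp.weight w)]
  exact ⟨Nat.add_le_add (hx _ hβ).1 (hy _ hγ).1, add_le_add (hx _ hβ).2 (hy _ hγ).2⟩

lemma one_mem_Fil : (1 : MvPolynomial σ R) ∈ Fil w R 0 0 :=
  monomial_mem_Fil w 1 (by simp) (by simp)

lemma monomial_induction (φ : MvPolynomial σ R →ₐ[R] MvPolynomial σ R)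
    (P : (σ →₀ ℕ) → MvPolynomial σ R → Prop) (h0 : P 0 1)
    (hstep : ∀ α i, P α (φ (monomial α 1)) → P (α + Finsupp.single i 1) (φ (monomial α 1) * φ (X i)))
    (α : σ →₀ ℕ) : P α (φ (monomial α 1)) := by
  classical
  induction α using Finsupp.induction with
  | zero => rwa [monomial_zero', C_1, map_one]
  | single_add i e α _ _ ih =>
    rw [add_comm]
    clear * - ih hstep
    induction e with
    | zero => simpa using ih
    | succ e ihe =>
      rw [Finsupp.single_add, ← add_assoc, monomial_add_single, pow_one, map_mul]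
      exact hstep _ i ihe

/-- an algebra endomorphism which raises weights of the variables raises weights -/
theorem map_mem_Fil (φ : MvPolynomial σ R →ₐ[R] MvPolynomial σ R)
    (hφ : ∀ i, φ (X i) ∈ Fil w R 1 (w i)) {a : ℕ} {b : ℤ} {x : MvPolynomial σ R} (hx : x ∈ Fil w R a b) :
    φ x ∈ Fil w R a b := by
  have key : ∀ α, φ (monomial α 1) ∈ Fil w R α.degree (Finsupp.weight w α) :=
    monomial_induction φ (fun α y => y ∈ Fil w R α.degree (Finsupp.weight w α))
      (by simpa using one_mem_Fil w) fun α i h => by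
        rw [map_add Finsupp.degree, map_add (Finsupp.weight w), Finsupp.degree_single, Finsupp.weight_single,
          one_smul]
        exact mul_mem_Fil w h (hφ i)
  rw [x.as_sum, map_sum]
  refine sum_mem fun α hα => ?_
  obtain ⟨h1, h2⟩ := (mem_Fil w).1 hx α (mem_support_iff.1 hα)
  rw [← mul_one (coeff α x), ← smul_eq_mul, ← smul_monomial, map_smul]
  exact Submodule.smul_mem _ _ (Fil_mono w h1 h2 (key α))

/-- an algebra endomorphism unipotent with respect to the filtration -/
theorem map_sub_mem_Fil (φ : MvPolynomial σ R →ₐ[R] MvPolynomial σ R)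
    (hφ : ∀ i, φ (X i) - X i ∈ Fil w R 1 (w i + 1)) {a : ℕ} {b : ℤ} {x : MvPolynomial σ R}
    (hx : x ∈ Fil w R a b) : φ x - x ∈ Fil w R a (b + 1) := by
  have hX : ∀ i, (X i : MvPolynomial σ R) ∈ Fil w R 1 (w i) := fun i =>
    monomial_mem_Fil w 1 (Finsupp.degree_single i 1).le (by rw [Finsupp.weight_single, one_smul])
  have hφ' : ∀ i, φ (X i) ∈ Fil w R 1 (w i) := fun i => by
    rw [show φ (X i) = (φ (X i) - X i) + X i by ring]
    exact add_mem (Fil_mono w le_rfl (by omega) (hφ i)) (hX i)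
  have key : ∀ α, φ (monomial α 1) - monomial α 1 ∈ Fil w R α.degree (Finsupp.weight w α + 1) :=
    monomial_induction φ (fun α y => y - monomial α 1 ∈ Fil w R α.degree (Finsupp.weight w α + 1))
      (by simp) fun α i h => by
        have hα : φ (monomial α 1) ∈ Fil w R α.degree (Finsupp.weight w α) :=
          map_mem_Fil w φ hφ' (monomial_mem_Fil w 1 le_rfl le_rfl)
        rw [map_add Finsupp.degree, map_add (Finsupp.weight w), Finsupp.degree_single, Finsupp.weight_single,
          one_smul, monomial_add_single, pow_one,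
          show φ (monomial α 1) * φ (X i) - monomial α 1 * X i =
            φ (monomial α 1) * (φ (X i) - X i) + (φ (monomial α 1) - monomial α 1) * X i by ring]
        refine add_mem (Fil_mono w le_rfl ?_ (mul_mem_Fil w hα (hφ i)))
          (Fil_mono w le_rfl ?_ (mul_mem_Fil w h (hX i))) <;> omega
  rw [x.as_sum, map_sum, ← Finset.sum_sub_distrib]
  refine sum_mem fun α hα => ?_
  obtain ⟨h1, h2⟩ := (mem_Fil w).1 hx α (mem_support_iff.1 hα)
  rw [← mul_one (coeff α x), ← smul_eq_mul, ← smul_monomial, map_smul, ← smul_sub]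
  exact Submodule.smul_mem _ _ (Fil_mono w h1 (by omega) (key α))

lemma weight_neg (α : σ →₀ ℕ) : Finsupp.weight (-w) α = -Finsupp.weight w α := by
  simp [Finsupp.weight_apply, Finsupp.sum, Finset.sum_neg_distrib]

/-- a bound for the weight of a monomial of degree at most `a` -/
lemma weight_bound [Fintype σ] {a : ℕ} {α : σ →₀ ℕ} (h : α.degree ≤ a) :
    -((a : ℤ) * ∑ i, |w i|) ≤ Finsupp.weight w α ∧ Finsupp.weight w α ≤ (a : ℤ) * ∑ i, |w i| := by
  classical
  have h1 : |Finsupp.weight w α| ≤ (α.degree : ℤ) * ∑ i, |w i| := by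
    rw [Finsupp.weight_apply, Finsupp.degree_apply, Nat.cast_sum, Finset.sum_mul]
    refine (Finset.abs_sum_le_sum_abs _ _).trans (Finset.sum_le_sum fun i _ => ?_)
    rw [abs_nsmul, nsmul_eq_mul]
    exact mul_le_mul_of_nonneg_left (Finset.single_le_sum (fun j _ => abs_nonneg (w j)) (Finset.mem_univ i))
      (Int.natCast_nonneg _)
  have h2 : (α.degree : ℤ) * ∑ i, |w i| ≤ (a : ℤ) * ∑ i, |w i| :=
    mul_le_mul_of_nonneg_right (by exact_mod_cast h) (Finset.sum_nonneg fun j _ => abs_nonneg (w j))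
  exact abs_le.1 (h1.trans h2)

lemma degree_le_of_totalDegree_le {a : ℕ} {x : MvPolynomial σ R} (h : x.totalDegree ≤ a) {α : σ →₀ ℕ}
    (hα : coeff α x ≠ 0) : α.degree ≤ a := by
  refine le_trans ?_ h
  rw [Finsupp.degree_apply]
  exact le_totalDegree (mem_support_iff.2 hα)

lemma finite_Fil [Finite σ] (a : ℕ) (b : ℤ) : Module.Finite R (Fil w R a b) :=
  have : Finite {α : σ →₀ ℕ | α.degree ≤ a ∧ b ≤ Finsupp.weight w α} :=
    ((Finsupp.finite_of_degree_le a).subset fun _ h => h.1).to_subtype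
  Module.Finite.of_basis (basisRestrictSupport R _)

/-- the component of weight `m` -/
noncomputable abbrev comp (m : ℤ) : MvPolynomial σ R →ₗ[R] MvPolynomial σ R :=
  weightedHomogeneousComponent w m

lemma comp_mem_Fil {a : ℕ} {b m : ℤ} {x : MvPolynomial σ R} (hx : x ∈ Fil w R a b) :
    comp w m x ∈ Fil w R a m := by
  rw [mem_Fil] at *
  intro α hα
  rw [coeff_weightedHomogeneousComponent] at hα
  split_ifs at hα with h
  · exact ⟨(hx α hα).1, h.ge⟩
  · exact absurd rfl hα

lemma comp_eq_self {a : ℕ} {m : ℤ} {x : MvPolynomial σ R} (h1 : x ∈ Fil w R a m)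
    (h2 : x ∈ Fil (-w) R a (-m)) : comp w m x = x := by
  ext α
  rw [coeff_weightedHomogeneousComponent]
  split_ifs with h
  · rfl
  · by_contra hne
    have e1 := ((mem_Fil w).1 h1 α (Ne.symm hne)).2
    have e2 := ((mem_Fil (-w)).1 h2 α (Ne.symm hne)).2
    rw [weight_neg] at e2
    omega

lemma comp_eq_zero {a : ℕ} {m : ℤ} {x : MvPolynomial σ R} (h2 : x ∈ Fil (-w) R a (-m + 1)) :
    comp w m x = 0 := by
  ext α
  rw [coeff_weightedHomogeneousComponent, coeff_zero]
  split_ifs with h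
  · by_contra hne
    have e2 := ((mem_Fil (-w)).1 h2 α hne).2
    rw [weight_neg] at e2
    omega
  · rfl

lemma sub_comp_mem {a : ℕ} {b M : ℤ} {x : MvPolynomial σ R} (h1 : x ∈ Fil w R a b)
    (h2 : x ∈ Fil (-w) R a (-M)) :
    x - comp w M x ∈ Fil w R a b ∧ x - comp w M x ∈ Fil (-w) R a (-M + 1) := by
  rw [mem_Fil, mem_Fil]
  refine ⟨fun α hα => ?_, fun α hα => ?_⟩ <;>
    rw [coeff_sub, coeff_weightedHomogeneousComponent] at hα <;>
    split_ifs at hα with h
  · simp at hα
  · exact (mem_Fil w).1 h1 α (by simpa using hα)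
  · simp at hα
  · obtain ⟨e1, e2⟩ := (mem_Fil (-w)).1 h2 α (by simpa using hα)
    refine ⟨e1, ?_⟩
    rw [weight_neg] at e2 ⊢
    omega

/-- a surjective endomorphism of a finite module stabilising a submodule `V` reflects it -/
theorem mem_of_map_mem {N : Type*} [AddCommGroup N] [Module R N] [Module.Finite R N] (V : Submodule R N)
    (p : N →ₗ[R] N) (hp : Function.Surjective p) (hV : ∀ v ∈ V, p v ∈ V) {x : N} (hx : p x ∈ V) :
    x ∈ V := by
  let p' : N ⧸ V →ₗ[R] N ⧸ V := V.mapQ V p fun v hv => hV v hv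
  have hs : Function.Surjective p' := fun y => by
    obtain ⟨y, rfl⟩ := V.mkQ_surjective y
    obtain ⟨z, rfl⟩ := hp y
    exact ⟨V.mkQ z, rfl⟩
  have hi := OrzechProperty.injective_of_surjective_endomorphism p' hs
  refine (Submodule.Quotient.mk_eq_zero V).1 (hi ?_)
  rw [map_zero]
  exact (Submodule.Quotient.mk_eq_zero V).2 hx

end Groth.Misc1.Dyn
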