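import Groth.Agent.Misc1.Dyn.Connected
import Groth.Agent.Sga3.SubHopfMap
import Mathlib.RingTheory.Flat.EquationalCriterion
import Mathlib.RingTheory.Flat.FaithfullyFlat.Algebra
import Mathlib.RingTheory.Ideal.IdempotentFG
import Mathlib.AlgebraicGeometry.Morphisms.Flat

/-!
# A flat surjection restricts to flat surjections of the attractors
-/

set_option autoImplicit false
set_option linter.style.haveILetI false

universe u

open TensorProduct WithConv

namespace Groth.Misc1.Dyn

variable {k : Type u} [Field k]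

section Ring
variable {D' D C' C : Type u} [CommRing D'] [CommRing D] [CommRing C'] [CommRing C]
  [Algebra k D'] [Algebra k D] [Algebra k C'] [Algebra k C]

lemma flat_left_of_flat_map (f : D' →ₐ[k] D) (g : C' →ₐ[k] C) (ε : C →ₐ[k] k)
    (h : (Algebra.TensorProduct.map f g : D' ⊗[k] C' →+* D ⊗[k] C).Flat) : (f : D' →+* D).Flat := by
  letI algD : Algebra D' D := (f : D' →+* D).toAlgebra
  haveI : IsScalarTower k D' D := IsScalarTower.of_algebraMap_eq fun r => (f.commutes r).symm
  have h1 : (algebraMap D' (D' ⊗[k] C')).Flat := RingHom.flat_algebraMap_iff.2 inferInstance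
  have h2 := h1.comp h
  rw [show (Algebra.TensorProduct.map f g : D' ⊗[k] C' →+* D ⊗[k] C).comp (algebraMap D' (D' ⊗[k] C')) =
    algebraMap D' (D ⊗[k] C) from RingHom.ext fun a => by
      simp [Algebra.TensorProduct.algebraMap_apply]
      rfl] at h2
  haveI : Module.Flat D' (D ⊗[k] C) := RingHom.flat_algebraMap_iff.1 h2
  let r : D ⊗[k] C →ₐ[k] D := Algebra.TensorProduct.lift (AlgHom.id k D) ((Algebra.ofId k D).comp ε)
    (fun _ _ => Commute.all _ _)
  change Module.Flat D' D
  refine Module.Flat.of_retract (M := D ⊗[k] C)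
    { toFun := fun d => d ⊗ₜ 1, map_add' := fun a b => add_tmul a b 1,
      map_smul' := fun a d => (TensorProduct.smul_tmul' a d (1 : C)).symm }
    { toFun := r, map_add' := map_add r, map_smul' := fun a z => ?_ } ?_
  · simp only [RingHom.id_apply, Algebra.smul_def, map_mul, Algebra.TensorProduct.algebraMap_apply]
    simp [r]
  · exact LinearMap.ext fun d => by simp [r]

lemma flat_right_of_flat_map (f : D' →ₐ[k] D) (g : C' →ₐ[k] C) (ε : D →ₐ[k] k)
    (h : (Algebra.TensorProduct.map f g : D' ⊗[k] C' →+* D ⊗[k] C).Flat) : (g : C' →+* C).Flat := by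
  refine flat_left_of_flat_map g f ε ?_
  have e : (Algebra.TensorProduct.map g f : C' ⊗[k] D' →+* C ⊗[k] D) =
      ((Algebra.TensorProduct.comm k D C).toAlgHom : D ⊗[k] C →+* C ⊗[k] D).comp
        ((Algebra.TensorProduct.map f g : D' ⊗[k] C' →+* D ⊗[k] C).comp
          ((Algebra.TensorProduct.comm k C' D').toAlgHom : C' ⊗[k] D' →+* D' ⊗[k] C')) := by
    refine congrArg AlgHom.toRingHom (show Algebra.TensorProduct.map g f =
      (Algebra.TensorProduct.comm k D C).toAlgHom.comp
        ((Algebra.TensorProduct.map f g).comp (Algebra.TensorProduct.comm k C' D').toAlgHom) from ?_)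
    ext <;> simp
  rw [e]
  exact ((RingHom.Flat.of_bijective (Algebra.TensorProduct.comm k C' D').bijective).comp h).comp
    (RingHom.Flat.of_bijective (Algebra.TensorProduct.comm k D C).bijective)

/-- A flat map with connected source which is faithfully flat over its image is injective. -/
lemma injective_of_flat_of_faithfullyFlat_range [IsNoetherianRing C'] [Nontrivial C] (f : C' →ₐ[k] C)
    (hflat : (f : C' →+* C).Flat) [hff : Module.FaithfullyFlat f.range C]
    (hconn : ∀ e : C', IsIdempotentElem e → e = 0 ∨ e = 1) : Function.Injective f := by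
  let I := RingHom.ker f
  letI : Algebra C' C := (f : C' →+* C).toAlgebra
  haveI : Module.Flat C' C := hflat
  have hI : IsIdempotentElem I := by
    refine le_antisymm Ideal.mul_le_left fun x hx => ?_
    have hrel : ∑ _i : Fin 1, x • (1 : C) = 0 := by
      rw [Fin.sum_univ_one, Algebra.smul_def, mul_one]
      exact hx
    obtain ⟨m, a, y, hy, ha⟩ := Module.Flat.iff_forall_isTrivialRelation.1 ‹_› hrel
    let N : Ideal C' := LinearMap.ker (LinearMap.toSpanSingleton C' C' x)
    have htop : (Ideal.map f.rangeRestrict N).map (algebraMap f.range C) = ⊤ := by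
      rw [Ideal.eq_top_iff_one, show (1 : C) = _ from hy 0]
      refine sum_mem fun j _ => ?_
      rw [Algebra.smul_def]
      refine Ideal.mul_mem_right _ _ (Ideal.mem_map_of_mem (algebraMap f.range C)
        (x := f.rangeRestrict (a 0 j)) (Ideal.mem_map_of_mem _ ?_))
      have := ha j
      rw [Fin.sum_univ_one] at this
      simpa [N, mul_comm] using this
    have htop' : Ideal.map f.rangeRestrict N = ⊤ := by
      rw [← Ideal.comap_map_eq_self_of_faithfullyFlat (B := C) (Ideal.map f.rangeRestrict N), htop,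
        Ideal.comap_top]
    obtain ⟨b, hb, hb1⟩ := (Ideal.mem_map_iff_of_surjective f.rangeRestrict f.rangeRestrict_surjective).1
      (htop' ▸ Submodule.mem_top : (1 : f.range) ∈ Ideal.map f.rangeRestrict N)
    have hb' : f b = 1 := congrArg Subtype.val hb1
    have hbx : b * x = 0 := by simpa [N] using hb
    rw [show x = (1 - b) * x by rw [sub_mul, one_mul, hbx, sub_zero]]
    exact Ideal.mul_mem_mul (by rw [RingHom.mem_ker, map_sub, map_one, hb', sub_self]) hx
  obtain ⟨e, he, hIe⟩ := (Ideal.isIdempotentElem_iff_of_fg I (IsNoetherian.noetherian I)).1 hI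
  rw [injective_iff_map_eq_zero]
  intro x hx
  have hx' : x ∈ I := hx
  rw [hIe] at hx'
  rcases hconn e he with rfl | rfl
  · simpa using hx'
  · have : (1 : C') ∈ I := hIe ▸ Submodule.mem_span_singleton_self 1
    simp [I, RingHom.mem_ker] at this

end Ring

section Hopf

variable {A A' : Type u} [CommRing A] [HopfAlgebra k A] [CommRing A'] [HopfAlgebra k A']
  (φ : A' →ₐc[k] A) (lam : A →ₐc[k] LaurentPolynomial k)

/-- composition of points with a homomorphism of groups -/
noncomputable def pre {R : Type u} [CommRing R] [Algebra k R] :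
    WithConv (A →ₐ[k] R) →* WithConv (A' →ₐ[k] R) where
  toFun g := toConv (g.ofConv.comp (φ : A' →ₐ[k] A))
  map_one' := WithConv.ofConv_injective (AlgHom.ext fun a => by
    simp [AlgHom.convOne_def, CoalgHomClass.counit_comp_apply])
  map_mul' f g := by
    apply WithConv.ofConv_injective
    exact AlgHom.convMul_comp_bialgHom_distrib f g φ

lemma conjOrbit_pre (R : Type u) [CommRing R] [Algebra k R] (g : A →ₐ[k] R) :
    Dyn.conjOrbit k A' (lam.comp φ) R (g.comp (φ : A' →ₐ[k] A)) =
      (Dyn.conjOrbit k A lam R g).comp (φ : A' →ₐ[k] A) := by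
  refine congrArg WithConv.ofConv (show toConv (Dyn.conjOrbit k A' (lam.comp φ) R (g.comp (φ : A' →ₐ[k] A))) =
    pre φ (toConv (Dyn.conjOrbit k A lam R g)) from ?_)
  rw [conjOrbit_eq, conjOrbit_eq, conjHom, conjHom, MonoidHom.comp_apply, MonoidHom.comp_apply, orb_apply,
    orb_apply, map_mul, map_mul]
  rfl

lemma limExists_pre (R : Type u) [CommRing R] [Algebra k R] {g : A →ₐ[k] R}
    (h : Dyn.LimExists k A lam R g) : Dyn.LimExists k A' (lam.comp φ) R (g.comp (φ : A' →ₐ[k] A)) := by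
  obtain ⟨q, hq⟩ := h
  exact ⟨q.comp (φ : A' →ₐ[k] A), by rw [conjOrbit_pre, ← hq, AlgHom.comp_assoc]⟩

lemma limIsOne_pre (R : Type u) [CommRing R] [Algebra k R] {g : A →ₐ[k] R}
    (h : Dyn.LimIsOne k A lam R g) : Dyn.LimIsOne k A' (lam.comp φ) R (g.comp (φ : A' →ₐ[k] A)) := by
  obtain ⟨q, hq, hq0⟩ := h
  refine ⟨q.comp (φ : A' →ₐ[k] A), by rw [conjOrbit_pre, ← hq, AlgHom.comp_assoc], ?_⟩
  rw [← AlgHom.comp_assoc, hq0, AlgHom.comp_assoc]
  exact AlgHom.ext fun a => congrArg (Algebra.ofId k R) (CoalgHomClass.counit_comp_apply φ a)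

lemma negParam_pre (lamNeg : A →ₐc[k] LaurentPolynomial k)
    (hneg : (lamNeg : A →ₐ[k] LaurentPolynomial k) = Dyn.negParam k A lam) :
    ((lamNeg.comp φ : A' →ₐc[k] LaurentPolynomial k) : A' →ₐ[k] LaurentPolynomial k) =
      Dyn.negParam k A' (lam.comp φ) :=
  AlgHom.ext fun a => DFunLike.congr_fun hneg (φ a)

lemma neg_negParam (lamNeg : A →ₐc[k] LaurentPolynomial k)
    (hneg : (lamNeg : A →ₐ[k] LaurentPolynomial k) = Dyn.negParam k A lam) :
    (lam : A →ₐ[k] LaurentPolynomial k) = Dyn.negParam k A lamNeg := by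
  refine AlgHom.ext fun a => ?_
  have h := DFunLike.congr_fun hneg a
  change _ = LaurentPolynomial.invert ((lamNeg : A →ₐ[k] LaurentPolynomial k) a)
  rw [h]
  exact (LaurentPolynomial.involutive_invert _).symm

variable {φ lam}

lemma quot_le_of_pre (J : Ideal A) (J' : Ideal A')
    {P : ∀ (R : Type u) [CommRing R] [Algebra k R], (A →ₐ[k] R) → Prop}
    {P' : ∀ (R : Type u) [CommRing R] [Algebra k R], (A' →ₐ[k] R) → Prop}
    (hJ : Dyn.Represents k A J P) (hJ' : Dyn.Represents k A' J' P')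
    (hpre : ∀ (g : A →ₐ[k] A ⧸ J), P _ g → P' _ (g.comp (φ : A' →ₐ[k] A))) :
    J' ≤ Ideal.comap (φ : A' →+* A) J := fun a ha =>
  (Ideal.Quotient.eq_zero_iff_mem (I := J)).1 ((hJ' _ _).2
    (hpre _ ((hJ _ (Ideal.Quotient.mkₐ k J)).1 fun _ hb => Ideal.Quotient.eq_zero_iff_mem.2 hb)) a ha)

open AlgebraicGeometry CategoryTheory in
/-- the map of big cells is flat -/
theorem flat_cell [Algebra.FiniteType k A] [Algebra.FiniteType k A']
    (hflat : (φ : A' →+* A).Flat) (lamNeg : A →ₐc[k] LaurentPolynomial k)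
    (hneg : (lamNeg : A →ₐ[k] LaurentPolynomial k) = Dyn.negParam k A lam)
    (Jp Jm : Ideal A) (Jp' Jm' : Ideal A')
    (hp : Dyn.Represents k A Jp (fun R _ _ g => Dyn.LimExists k A lam R g))
    (hm : Dyn.Represents k A Jm (fun R _ _ g => Dyn.LimIsOne k A lamNeg R g))
    (hp' : Dyn.Represents k A' Jp' (fun R _ _ g => Dyn.LimExists k A' (lam.comp φ) R g))
    (hm' : Dyn.Represents k A' Jm' (fun R _ _ g => Dyn.LimIsOne k A' (lamNeg.comp φ) R g))
    (lem : Jm' ≤ Ideal.comap (φ : A' →+* A) Jm) (lep : Jp' ≤ Ideal.comap (φ : A' →+* A) Jp) :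
    (Algebra.TensorProduct.map (Ideal.quotientMapₐ Jm (φ : A' →ₐ[k] A) lem)
        (Ideal.quotientMapₐ Jp (φ : A' →ₐ[k] A) lep) :
      (A' ⧸ Jm') ⊗[k] (A' ⧸ Jp') →+* (A ⧸ Jm) ⊗[k] (A ⧸ Jp)).Flat := by
  obtain ⟨n, ⟨W⟩⟩ := exists_wcoord lam
  obtain ⟨n', ⟨W'⟩⟩ := exists_wcoord (lam.comp φ)
  haveI h1 := isOpenImmersion_cell W lamNeg hneg Jp Jm hp hm
  haveI h2 := isOpenImmersion_cell W' (lamNeg.comp φ) (negParam_pre φ lam lamNeg hneg) Jp' Jm' hp' hm'
  set μ := ((Algebra.TensorProduct.map (Ideal.Quotient.mkₐ k Jm) (Ideal.Quotient.mkₐ k Jp)).comp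
    (Bialgebra.comulAlgHom k A)).toRingHom with hμ
  set μ' := ((Algebra.TensorProduct.map (Ideal.Quotient.mkₐ k Jm') (Ideal.Quotient.mkₐ k Jp')).comp
    (Bialgebra.comulAlgHom k A')).toRingHom with hμ'
  set ψ := (Algebra.TensorProduct.map (Ideal.quotientMapₐ Jm (φ : A' →ₐ[k] A) lem)
        (Ideal.quotientMapₐ Jp (φ : A' →ₐ[k] A) lep) :
      (A' ⧸ Jm') ⊗[k] (A' ⧸ Jp') →+* (A ⧸ Jm) ⊗[k] (A ⧸ Jp))
  have hsq : μ.comp (φ : A' →+* A) = ψ.comp μ' := by
    refine RingHom.ext fun a => ?_
    change Algebra.TensorProduct.map (Ideal.Quotient.mkₐ k Jm) (Ideal.Quotient.mkₐ k Jp)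
      (Coalgebra.comul (R := k) (φ a)) = Algebra.TensorProduct.map (Ideal.quotientMapₐ Jm (φ : A' →ₐ[k] A) lem)
        (Ideal.quotientMapₐ Jp (φ : A' →ₐ[k] A) lep) (Algebra.TensorProduct.map (Ideal.Quotient.mkₐ k Jm')
          (Ideal.Quotient.mkₐ k Jp') (Coalgebra.comul (R := k) a))
    rw [← CoalgHomClass.map_comp_comul_apply φ a]
    induction Coalgebra.comul (R := k) a using TensorProduct.induction_on with
    | zero => simp
    | tmul x y => rfl
    | add x y hx hy => simp only [map_add, hx, hy]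
  haveI hflat' : Flat (Spec.map (CommRingCat.ofHom (φ : A' →+* A))) := Flat.SpecMap_iff.2 hflat
  let iB := Spec.map (CommRingCat.ofHom μ')
  let f := Spec.map (CommRingCat.ofHom ψ)
  have hf : f ≫ iB = Spec.map (CommRingCat.ofHom μ) ≫ Spec.map (CommRingCat.ofHom (φ : A' →+* A)) := by
    rw [← Spec.map_comp, ← Spec.map_comp, ← CommRingCat.ofHom_comp, ← CommRingCat.ofHom_comp, hsq]
  have : Flat (f ≫ iB) := by rw [hf]; infer_instance
  have sq : CategoryTheory.IsPullback f (CategoryTheory.CategoryStruct.id _) iB (f ≫ iB) :=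
    CategoryTheory.IsPullback.of_isLimit
      (c := CategoryTheory.Limits.PullbackCone.mk f (CategoryTheory.CategoryStruct.id _) (by simp))
      (CategoryTheory.Limits.PullbackCone.IsLimit.mk _ (fun s => s.snd)
        (fun s => (CategoryTheory.cancel_mono iB).1 (by
          rw [CategoryTheory.Category.assoc]; exact s.condition.symm))
        (fun s => CategoryTheory.Category.comp_id _)
        (fun s m _ h => by simpa using h))
  exact Flat.SpecMap_iff.1 (CategoryTheory.MorphismProperty.of_isPullback (P := @Flat) sq.flip this)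

variable (φ) in
lemma injective_quotientMap [Algebra.FiniteType k A'] (J : Ideal A) (J' : Ideal A') [J.IsHopfIdeal k]
    [J'.IsHopfIdeal k] (h : J' ≤ Ideal.comap (φ : A' →+* A) J)
    (hflat : (Ideal.quotientMap J (φ : A' →+* A) h).Flat)
    (hconn : ∀ e : A' ⧸ J', IsIdempotentElem e → e = 0 ∨ e = 1) :
    Function.Injective (Ideal.quotientMap J (φ : A' →+* A) h) := by
  let g : A' →ₐc[k] A ⧸ J := (Bialgebra.Quotient.mkBialgHom J).comp φ
  have hr : (Ideal.quotientMapₐ J (φ : A' →ₐ[k] A) h).range = (g : A' →ₐ[k] A ⧸ J).range := by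
    ext x
    constructor
    · rintro ⟨y, rfl⟩
      obtain ⟨a, rfl⟩ := Ideal.Quotient.mk_surjective y
      exact ⟨a, rfl⟩
    · rintro ⟨a, rfl⟩
      exact ⟨Ideal.Quotient.mk J' a, rfl⟩
  haveI : Module.FaithfullyFlat (Ideal.quotientMapₐ J (φ : A' →ₐ[k] A) h).range (A ⧸ J) := by
    rw [hr]; exact Groth.Sga3.SubHopfFlat.faithfullyFlat_range g
  haveI : IsNoetherianRing A' := Algebra.FiniteType.isNoetherianRing k A'
  haveI : Nontrivial (A ⧸ J) := RingHom.domain_nontrivial (Bialgebra.counitAlgHom k (A ⧸ J)).toRingHom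
  exact injective_of_flat_of_faithfullyFlat_range (Ideal.quotientMapₐ J (φ : A' →ₐ[k] A) h) hflat hconn

end Hopf

end Groth.Misc1.Dyn
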