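import Groth.Agent.Misc1.Dyn.Orbit
import Mathlib.RingTheory.Polynomial.Basic

/-!
# Centraliser and decomposition of the attractor
-/

set_option autoImplicit false
set_option linter.style.haveILetI false

universe u

open LaurentPolynomial TensorProduct WithConv

namespace Groth.Misc1.Dyn

variable {k : Type u} [CommRing k] {A : Type u} [CommRing A] [HopfAlgebra k A]
  (lam : A →ₐc[k] k[T;T⁻¹]) (R : Type u) [CommRing R] [Algebra k R]

/-- `T ↦ 1` -/
noncomputable def ev1 : R[T;T⁻¹] →ₐ[k] R :=
  (AddMonoidAlgebra.lift R R ℤ (1 : Multiplicative ℤ →* R)).restrictScalars k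

lemma ev1_cst (r : R) : ev1 (k := k) R (cst (k := k) R r) = r := by
  simp [ev1, LaurentPolynomial.algebraMap_apply, ← single_eq_C, -single_eq_C_mul_T]

lemma ev1_T (n : ℤ) : ev1 (k := k) R (T n) = 1 := by
  simp [ev1, T, -single_eq_C_mul_T]

/-- the orbit passes through the point at time one -/
lemma post_ev1_conjHom (g : WithConv (A →ₐ[k] R)) : post (ev1 R) (conjHom lam R g) = g := by
  rw [conjHom, MonoidHom.comp_apply, post_orb, post_comp,
    show Units.map (ev1 (k := k) R : R[T;T⁻¹] →* R) (tU R) = 1 from Units.ext (ev1_T (k := k) R 1), orb_one,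
    show (ev1 (k := k) R).comp (cst R) = AlgHom.id k R from AlgHom.ext (ev1_cst (k := k) R)]
  rfl

lemma conjOrbit_fixed_iff (g : A →ₐ[k] R) :
    Dyn.conjOrbit k A lam R g = (cst R).comp g ↔
      ∀ a n, n ≠ 0 → (Dyn.conjOrbit k A lam R g a).coeff n = 0 := by
  constructor
  · intro h a n hn
    rw [h, AlgHom.comp_apply]
    simp [LaurentPolynomial.algebraMap_apply, ← single_eq_C, -single_eq_C_mul_T, Ne.symm hn]
  · intro h
    refine AlgHom.ext fun a => ?_
    have hp : Dyn.conjOrbit k A lam R g a = C ((Dyn.conjOrbit k A lam R g a).coeff 0) := by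
      ext n
      by_cases hn : n = 0
      · subst hn; simp [← single_eq_C, -single_eq_C_mul_T]
      · rw [h a n hn]; simp [← single_eq_C, -single_eq_C_mul_T, Ne.symm hn]
    have h1 := DFunLike.congr_fun (congrArg WithConv.ofConv (post_ev1_conjHom lam R (toConv g))) a
    rw [← conjOrbit_eq] at h1
    simp only [ofConv_post, ofConv_toConv, AlgHom.comp_apply] at h1
    rw [hp] at h1 ⊢
    rw [AlgHom.comp_apply, ← h1]
    exact congrArg (fun r => C r) (ev1_cst (k := k) R _).symm

theorem represents_sup (lamNeg : A →ₐc[k] k[T;T⁻¹])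
    (hneg : (lamNeg : A →ₐ[k] k[T;T⁻¹]) = Dyn.negParam k A lam) (Jp Jp' : Ideal A)
    (hp : Dyn.Represents k A Jp (fun R _ _ g => Dyn.LimExists k A lam R g))
    (hp' : Dyn.Represents k A Jp' (fun R _ _ g => Dyn.LimExists k A lamNeg R g)) :
    Dyn.Represents k A (Jp ⊔ Jp')
      (fun R _ _ g => Dyn.conjOrbit k A lam R g = (IsScalarTower.toAlgHom k R R[T;T⁻¹]).comp g) := by
  intro R _ _ g
  show _ ↔ Dyn.conjOrbit k A lam R g = (cst R).comp g
  let inv' : R[T;T⁻¹] →ₐ[k] R[T;T⁻¹] := ((LaurentPolynomial.invert (R := R)).toAlgHom).restrictScalars k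
  have hL : L (C := R[T;T⁻¹]) lamNeg (tU R) = post inv' (L lam (tU R)) := by
    rw [← lamR_eq, ← lamR_eq]
    apply WithConv.ofConv_injective
    change (AddMonoidAlgebra.mapAlgHom ℤ (Algebra.ofId k R)).comp (lamNeg : A →ₐ[k] k[T;T⁻¹]) = _
    rw [hneg, Dyn.negParam, ← AlgHom.comp_assoc]
    change _ = (inv'.comp (AddMonoidAlgebra.mapAlgHom ℤ (Algebra.ofId k R))).comp (lam : A →ₐ[k] k[T;T⁻¹])
    congr 1
    refine ev_unique fun n => ?_
    simp [inv', T, -single_eq_C_mul_T, LaurentPolynomial.invert, AddMonoidAlgebra.domCongr_single]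
  have hc : toConv (Dyn.conjOrbit k A lamNeg R g) = post inv' (toConv (Dyn.conjOrbit k A lam R g)) := by
    rw [conjOrbit_eq, conjOrbit_eq, conjHom, conjHom, MonoidHom.comp_apply, MonoidHom.comp_apply,
      orb_apply, orb_apply, L_inv, L_inv, hL, map_mul, map_mul, map_inv, post_comp,
      show inv'.comp (cst R) = cst R from AlgHom.ext fun r => by
        simp [inv', LaurentPolynomial.algebraMap_apply, ← single_eq_C, -single_eq_C_mul_T,
          LaurentPolynomial.invert]]
  have hcoef : ∀ a n, (Dyn.conjOrbit k A lamNeg R g a).coeff n =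
      (Dyn.conjOrbit k A lam R g a).coeff (-n) := fun a n => by
    have h := DFunLike.congr_fun (congrArg WithConv.ofConv hc) a
    simp only [ofConv_post, ofConv_toConv, AlgHom.comp_apply] at h
    rw [h]
    exact LaurentPolynomial.invert_apply _ _
  have e1 : (∀ a ∈ Jp, g a = 0) ↔ Dyn.LimExists k A lam R g := hp R g
  have e2 : (∀ a ∈ Jp', g a = 0) ↔ Dyn.LimExists k A lamNeg R g := hp' R g
  rw [limExists_iff] at e1 e2
  rw [conjOrbit_fixed_iff]
  constructor
  · intro h a n hn
    rcases lt_or_gt_of_ne hn with h' | h'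
    · exact e1.1 (fun b hb => h b (Ideal.mem_sup_left hb)) a n h'
    · have := e2.1 (fun b hb => h b (Ideal.mem_sup_right hb)) a (-n) (by omega)
      rwa [hcoef, neg_neg] at this
  · intro h
    have h1 := e1.2 fun a n hn => h a n hn.ne
    have h2 := e2.2 fun a n hn => by rw [hcoef]; exact h a _ (by omega)
    have hle : Jp ⊔ Jp' ≤ RingHom.ker g := sup_le (fun a ha => h1 a ha) (fun a ha => h2 a ha)
    exact fun a ha => hle ha

variable {R}

/-- `T ↦ T S` from `R[T]` to `R[T][S,S⁻¹]` -/
noncomputable def chi : Polynomial R →ₐ[k] (Polynomial R)[T;T⁻¹] :=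
  (Polynomial.aeval (R := R) (C Polynomial.X * T 1 : (Polynomial R)[T;T⁻¹])).restrictScalars k

lemma orb_cst_limit (g : A →ₐ[k] R) (h : A →ₐ[k] Polynomial R)
    (hh : (toL R).comp h = Dyn.conjOrbit k A lam R g) :
    conjHom lam (Polynomial R) (toConv h) = post (chi (k := k)) (toConv h) := by
  let j : (Polynomial R)[T;T⁻¹] →ₐ[k] (R[T;T⁻¹])[T;T⁻¹] := AddMonoidAlgebra.mapAlgHom ℤ (toL R)
  have hj : Function.Injective j := AddMonoidAlgebra.map_injective (R := Polynomial R) (S := R[T;T⁻¹]) _ (toL_injective (k := k) R)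
  apply post_injective hj
  have hh' : post (toL R) (toConv h) = conjHom lam R (toConv g) := by
    rw [← conjOrbit_eq, ← hh]; rfl
  rw [conjHom_natural, hh', conjHom, MonoidHom.comp_apply, conjHom, MonoidHom.comp_apply, post_orb,
    post_comp, orb_orb, post_comp]
  -- the multiplication map `T ↦ T S`
  let w : ((R[T;T⁻¹])[T;T⁻¹])ˣ := tU (R[T;T⁻¹]) *
    Units.map ((cst (k := k) (R[T;T⁻¹])) : R[T;T⁻¹] →* (R[T;T⁻¹])[T;T⁻¹]) (tU R)
  let chi' : R[T;T⁻¹] →ₐ[k] (R[T;T⁻¹])[T;T⁻¹] :=
    (AddMonoidAlgebra.lift R ((R[T;T⁻¹])[T;T⁻¹]) ℤ ((Units.coeHom _).comp (zpowersHom _ w))).restrictScalars k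
  have hchiC : ∀ r, chi' (cst (k := k) R r) = cst (k := k) (R[T;T⁻¹]) (cst (k := k) R r) := fun r => by
    simp [chi', LaurentPolynomial.algebraMap_apply, ← single_eq_C, -single_eq_C_mul_T,
      Algebra.smul_def]
  have hchiU : Units.map (chi' : R[T;T⁻¹] →* (R[T;T⁻¹])[T;T⁻¹]) (tU R) = w := Units.ext (by
    simp [chi', tU, T, -single_eq_C_mul_T])
  have hcomp : j.comp chi = chi'.comp (toL R) := by
    refine AlgHom.ext fun p => ?_
    induction p using Polynomial.induction_on' with
    | add p q hp hq => simp only [map_add, hp, hq]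
    | monomial n r =>
      rw [← Polynomial.C_mul_X_pow_eq_monomial, map_mul, map_mul, map_pow, map_pow]
      congr 1
      · refine Eq.trans ?_ ((congrArg chi' (show toL (k := k) R (Polynomial.C r) = cst (k := k) R r by
          simp [LaurentPolynomial.algebraMap_apply])).trans (hchiC r)).symm
        simp [j, chi, LaurentPolynomial.algebraMap_apply, ← single_eq_C, -single_eq_C_mul_T]
      · congr 1
        refine Eq.trans ?_ ((congrArg chi' (show toL (k := k) R Polynomial.X = T 1 by simp)).trans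
          (congrArg Units.val hchiU)).symm
        simp [j, chi, w, tU, LaurentPolynomial.algebraMap_apply, T, ← single_eq_C, -single_eq_C_mul_T,
          AddMonoidAlgebra.single_mul_single]
  rw [hcomp, ← post_comp (toL R) chi' (toConv h), hh', conjHom, MonoidHom.comp_apply, post_orb, post_comp, hchiU,
    show chi'.comp (cst R) = (cst (R[T;T⁻¹])).comp (cst R) from AlgHom.ext hchiC]

/-- the limit point commutes with the one-parameter subgroup -/
lemma limit_fixed (g : A →ₐ[k] R) (h : A →ₐ[k] Polynomial R)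
    (hh : (toL R).comp h = Dyn.conjOrbit k A lam R g) :
    conjHom lam R (post ev0 (toConv h)) = post (cst R) (post ev0 (toConv h)) := by
  rw [← conjHom_natural, orb_cst_limit lam g h hh, post_comp, post_comp]
  congr 1
  congr 1
  refine AlgHom.ext fun p => ?_
  induction p using Polynomial.induction_on' with
  | add p q hp hq => simp only [map_add, hp, hq]
  | monomial n r =>
    rw [← Polynomial.C_mul_X_pow_eq_monomial, map_mul, map_mul, map_pow, map_pow]
    rcases n.eq_zero_or_pos with rfl | hn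
    · simp [chi, LaurentPolynomial.algebraMap_apply, ← single_eq_C, -single_eq_C_mul_T]
    · simp [chi, LaurentPolynomial.algebraMap_apply, ← single_eq_C, -single_eq_C_mul_T, T,
        zero_pow hn.ne']

theorem existsUnique_decomp (g : A →ₐ[k] R) (hg : Dyn.LimExists k A lam R g) :
    ∃! zu : (A →ₐ[k] R) × (A →ₐ[k] R),
      Dyn.conjOrbit k A lam R zu.1 = (IsScalarTower.toAlgHom k R R[T;T⁻¹]).comp zu.1 ∧
      Dyn.LimIsOne k A lam R zu.2 ∧
      Dyn.conv3 k A zu.1 zu.2 ((Algebra.ofId k R).comp (Bialgebra.counitAlgHom k A)) = g := by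
  obtain ⟨h, hh⟩ := hg
  let CX : R →ₐ[k] Polynomial R := IsScalarTower.toAlgHom k R (Polynomial R)
  have htc : (toL R).comp CX = cst R := AlgHom.ext fun r => by
    simp [CX, LaurentPolynomial.algebraMap_apply]
  have hec : (ev0 (k := k) (R := R)).comp CX = AlgHom.id k R := AlgHom.ext fun r => by simp [CX]
  have hh' : post (toL R) (toConv h) = conjHom lam R (toConv g) := by
    rw [← conjOrbit_eq, ← hh]; rfl
  set z := post (A := A) ev0 (toConv h) with hz
  have hzfix : conjHom lam R z = post (cst R) z := limit_fixed lam g h hh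
  refine ⟨(z.ofConv, (z⁻¹ * toConv g).ofConv), ⟨?_, ⟨((post CX z)⁻¹ * toConv h).ofConv, ?_, ?_⟩, ?_⟩, ?_⟩
  · exact congrArg WithConv.ofConv ((conjOrbit_eq lam R z.ofConv).trans hzfix)
  · exact congrArg WithConv.ofConv (show post (toL R) ((post CX z)⁻¹ * toConv h) =
        toConv (Dyn.conjOrbit k A lam R (z⁻¹ * toConv g).ofConv) by
      rw [conjOrbit_eq, toConv_ofConv, map_mul, map_inv, map_mul, map_inv, post_comp, htc, hzfix, hh'])
  · refine congrArg WithConv.ofConv (?_ : post ev0 ((post CX z)⁻¹ * toConv h) = 1)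
    rw [map_mul, map_inv, post_comp, hec, ← hz]
    exact inv_mul_cancel z
  · rw [Groth.Sga3.ConvPoints.conv3_eq]
    exact congrArg WithConv.ofConv ((mul_one _).trans (mul_inv_cancel_left z (toConv g)))
  · rintro ⟨z', u'⟩ ⟨hz', ⟨hu', hhu, hu0⟩, hmul⟩
    rw [Groth.Sga3.ConvPoints.conv3_eq] at hmul
    have hg' : toConv z' * toConv u' = toConv g :=
      (mul_one _).symm.trans (WithConv.ofConv_injective hmul)
    have hzc : conjHom lam R (toConv z') = post (cst R) (toConv z') := by
      rw [← conjOrbit_eq, hz']; rfl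
    have h1 : post (toL R) (post CX (toConv z') * toConv hu') = post (toL R) (toConv h) := by
      have : post (toL R) (toConv hu') = conjHom lam R (toConv u') := by
        rw [← conjOrbit_eq, ← hhu]; rfl
      rw [map_mul, post_comp, htc, ← hzc, this, ← map_mul, hg', hh']
    have h2 := congrArg (post (ev0 (k := k) (R := R))) (post_injective (toL_injective R) h1)
    have h0 : post (ev0 (k := k) (R := R)) (toConv hu') = 1 := WithConv.ofConv_injective hu0
    rw [map_mul, post_comp, hec, h0, mul_one, ← hz] at h2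
    have hzz : toConv z' = z := h2
    refine Prod.ext (congrArg WithConv.ofConv hzz) ?_
    refine congrArg WithConv.ofConv (?_ : toConv u' = z⁻¹ * toConv g)
    rw [← hg', hzz, inv_mul_cancel_left]

end Groth.Misc1.Dyn
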