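import Groth.Prelude.Def_Dyn
import Groth.Agent.Sga3.ConvPoints
import Mathlib.RingTheory.HopfAlgebra.Quotient
import Mathlib.RingTheory.Bialgebra.MonoidAlgebra

/-!
# Orbits of one-parameter subgroups, attractor ideals
-/

set_option autoImplicit false
set_option linter.style.haveILetI false

universe u

open LaurentPolynomial TensorProduct WithConv

namespace Groth.Misc1.Dyn

variable {k : Type u} [CommRing k]

section Ev
variable {C : Type u} [CommRing C] [Algebra k C]

/-- evaluation of a Laurent polynomial at a unit -/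
noncomputable def ev (s : Cˣ) : k[T;T⁻¹] →ₐ[k] C :=
  AddMonoidAlgebra.lift k C ℤ ((Units.coeHom C).comp (zpowersHom Cˣ s))

lemma ev_T (s : Cˣ) (n : ℤ) : ev (k := k) s (T n) = ((s ^ n : Cˣ) : C) := by
  rw [ev, T, AddMonoidAlgebra.lift_single, one_smul]
  rfl

lemma ev_unique {f g : k[T;T⁻¹] →ₐ[k] C} (h : ∀ n : ℤ, f (T n) = g (T n)) : f = g :=
  AddMonoidAlgebra.algHom_ext (fun n => h n)
    (AlgHom.ext fun r => ((f.comp _).commutes r).trans ((g.comp _).commutes r).symm)

lemma ev_mul (s t : Cˣ) :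
    toConv (ev (k := k) s) * toConv (ev t) = toConv (ev (s * t)) := by
  refine WithConv.ofConv_injective (ev_unique fun n => ?_)
  rw [AlgHom.convMul_def]
  simp [Bialgebra.comulAlgHom_apply, LaurentPolynomial.comul_T, ev_T, mul_zpow]

lemma ev_one : toConv (ev (k := k) (1 : Cˣ)) = 1 := by
  refine WithConv.ofConv_injective (ev_unique fun n => ?_)
  simp [AlgHom.convOne_def, ev_T, LaurentPolynomial.counit_T]

lemma comp_ev {C' : Type u} [CommRing C'] [Algebra k C'] (φ : C →ₐ[k] C') (s : Cˣ) :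
    φ.comp (ev s) = ev (Units.map (φ : C →* C') s) :=
  ev_unique fun n => by
    rw [AlgHom.comp_apply, ev_T, ev_T, ← map_zpow]
    rfl

end Ev

variable {A : Type u} [CommRing A] [HopfAlgebra k A]

section Grp
variable {C : Type u} [CommRing C] [Algebra k C]

lemma mul_antipode (f : WithConv (A →ₐ[k] C)) :
    f * toConv (f.ofConv.comp (HopfAlgebra.antipodeAlgHom k A)) = 1 := by
  apply WithConv.ofConv_injective
  apply AlgHom.toLinearMap_injective
  apply WithConv.toConv_injective
  rw [AlgHom.toLinearMap_convMul, AlgHom.toLinearMap_convOne]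
  exact Groth.Sga3.ConvPoints.lin_mul_antipode f.ofConv

/-- the group of points -/
noncomputable instance pointsGroup : Group (WithConv (A →ₐ[k] C)) where
  inv f := toConv (f.ofConv.comp (HopfAlgebra.antipodeAlgHom k A))
  inv_mul_cancel f := by
    change toConv (f.ofConv.comp (HopfAlgebra.antipodeAlgHom k A)) * f = 1
    set f' := toConv (f.ofConv.comp (HopfAlgebra.antipodeAlgHom k A)) with hf'
    set f'' := toConv (f'.ofConv.comp (HopfAlgebra.antipodeAlgHom k A))
    calc f' * f = f' * f * (f' * f'') := by rw [show f' * f'' = 1 from mul_antipode f', mul_one]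
      _ = f' * (f * f') * f'' := by simp only [mul_assoc]
      _ = 1 := by rw [show f * f' = 1 from mul_antipode f, mul_one, mul_antipode f']

end Grp

section Post
variable {C C' : Type u} [CommRing C] [Algebra k C] [CommRing C'] [Algebra k C']

/-- points are functorial -/
noncomputable def post (φ : C →ₐ[k] C') :
    WithConv (A →ₐ[k] C) →* WithConv (A →ₐ[k] C') where
  toFun g := toConv (φ.comp g.ofConv)
  map_one' := WithConv.ofConv_injective (AlgHom.ext fun a => φ.commutes _)
  map_mul' f g := by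
    apply WithConv.ofConv_injective
    exact AlgHom.comp_convMul_distrib φ f g

@[simp] lemma ofConv_post (φ : C →ₐ[k] C') (g : WithConv (A →ₐ[k] C)) :
    (post φ g).ofConv = φ.comp g.ofConv := rfl

lemma post_comp {C'' : Type u} [CommRing C''] [Algebra k C''] (φ : C →ₐ[k] C') (ψ : C' →ₐ[k] C'')
    (g : WithConv (A →ₐ[k] C)) : post ψ (post φ g) = post (ψ.comp φ) g :=
  rfl

lemma post_injective {φ : C →ₐ[k] C'} (hφ : Function.Injective φ) :
    Function.Injective (post (A := A) φ) := fun f g h =>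
  WithConv.ofConv_injective (AlgHom.ext fun a => hφ (DFunLike.congr_fun (congrArg WithConv.ofConv h) a))

end Post

variable (lam : A →ₐc[k] k[T;T⁻¹])

section Orb
variable {C : Type u} [CommRing C] [Algebra k C]

/-- the value of the one-parameter subgroup at a unit -/
noncomputable def L (s : Cˣ) : WithConv (A →ₐ[k] C) := toConv ((ev s).comp (lam : A →ₐ[k] k[T;T⁻¹]))

lemma L_mul (s t : Cˣ) : L lam s * L lam t = L lam (s * t) := by
  apply WithConv.ofConv_injective
  refine (AlgHom.convMul_comp_bialgHom_distrib (toConv (ev (k := k) s)) (toConv (ev t)) lam).symm.trans ?_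
  rw [ev_mul]
  rfl

lemma L_one : L lam (1 : Cˣ) = 1 := by
  rw [L]
  apply WithConv.ofConv_injective
  refine AlgHom.ext fun a => ?_
  have h := DFunLike.congr_fun (congrArg WithConv.ofConv (ev_one (k := k) (C := C))) (lam a)
  refine h.trans ?_
  simp [AlgHom.convOne_def, CoalgHomClass.counit_comp_apply]

lemma L_inv (s : Cˣ) : L lam s⁻¹ = (L lam s)⁻¹ :=
  eq_inv_of_mul_eq_one_right (by rw [L_mul, mul_inv_cancel, L_one])

lemma post_L {C' : Type u} [CommRing C'] [Algebra k C'] (φ : C →ₐ[k] C') (s : Cˣ) :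
    post φ (L lam s) = L lam (Units.map (φ : C →* C') s) := by
  apply WithConv.ofConv_injective
  simp [L, ← AlgHom.comp_assoc, comp_ev]

/-- conjugation by the value at a unit -/
noncomputable def orb (s : Cˣ) : WithConv (A →ₐ[k] C) →* WithConv (A →ₐ[k] C) :=
  (MulAut.conj (L lam s)).toMonoidHom

lemma orb_apply (s : Cˣ) (g : WithConv (A →ₐ[k] C)) : orb lam s g = L lam s * g * L lam s⁻¹ := by
  rw [L_inv]; rfl

lemma orb_orb (s t : Cˣ) (g : WithConv (A →ₐ[k] C)) :
    orb lam s (orb lam t g) = orb lam (s * t) g := by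
  rw [orb, orb, orb, ← L_mul, map_mul]
  rfl

lemma orb_one (g : WithConv (A →ₐ[k] C)) : orb lam 1 g = g := by
  rw [orb_apply, inv_one, L_one, one_mul, mul_one]

lemma post_orb {C' : Type u} [CommRing C'] [Algebra k C'] (φ : C →ₐ[k] C') (s : Cˣ)
    (g : WithConv (A →ₐ[k] C)) :
    post φ (orb lam s g) = orb lam (Units.map (φ : C →* C') s) (post φ g) := by
  simp [orb_apply, map_mul, post_L]

end Orb

section Conj
variable (R : Type u) [CommRing R] [Algebra k R]

/-- the tautological unit -/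
noncomputable def tU : (R[T;T⁻¹])ˣ :=
  ⟨T 1, T (-1), by rw [← T_add, add_neg_cancel, T_zero], by rw [← T_add, neg_add_cancel, T_zero]⟩

lemma tU_zpow (n : ℤ) : ((tU R ^ n : (R[T;T⁻¹])ˣ) : R[T;T⁻¹]) = T n := by
  induction n using Int.induction_on with
  | zero => simp
  | succ n ih => rw [zpow_add_one, Units.val_mul, ih]; exact (T_add _ _).symm
  | pred n ih => rw [zpow_sub_one, Units.val_mul, ih]; exact (T_add (-(n : ℤ)) (-1)).symm

/-- constants -/
noncomputable abbrev cst : R →ₐ[k] R[T;T⁻¹] := IsScalarTower.toAlgHom k R R[T;T⁻¹]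

lemma lamR_eq : toConv (Dyn.lamR k A lam R) = L lam (tU R) := by
  apply WithConv.ofConv_injective
  change (AddMonoidAlgebra.mapAlgHom ℤ (Algebra.ofId k R)).comp (lam : A →ₐ[k] k[T;T⁻¹]) =
    (ev (tU R)).comp (lam : A →ₐ[k] k[T;T⁻¹])
  congr 1
  refine ev_unique fun n => ?_
  rw [ev_T, tU_zpow]
  simp [T, -single_eq_C_mul_T]

/-- the orbit as a monoid homomorphism -/
noncomputable def conjHom : WithConv (A →ₐ[k] R) →* WithConv (A →ₐ[k] R[T;T⁻¹]) :=
  (orb lam (tU R)).comp (post (cst R))

lemma conjOrbit_eq (g : A →ₐ[k] R) :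
    toConv (Dyn.conjOrbit k A lam R g) = conjHom lam R (toConv g) := by
  rw [Dyn.conjOrbit, Groth.Sga3.ConvPoints.conv3_eq, conjHom, MonoidHom.comp_apply, orb_apply, L_inv,
    ← lamR_eq]
  rfl

lemma conjHom_natural {R' : Type u} [CommRing R'] [Algebra k R'] (φ : R →ₐ[k] R')
    (g : WithConv (A →ₐ[k] R)) :
    post (AddMonoidAlgebra.mapAlgHom ℤ φ) (conjHom lam R g) = conjHom lam R' (post φ g) := by
  rw [conjHom, MonoidHom.comp_apply, post_orb, conjHom, MonoidHom.comp_apply, post_comp, post_comp]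
  congr 2
  · exact Units.ext (by simp [tU, T, -single_eq_C_mul_T])
  · congr 1
    exact AlgHom.ext fun r => by
      simp [LaurentPolynomial.algebraMap_apply, ← single_eq_C, -single_eq_C_mul_T]

/-- universal orbit -/
noncomputable def univ : A →ₐ[k] A[T;T⁻¹] := Dyn.conjOrbit k A lam A (AlgHom.id k A)

lemma conjOrbit_univ (g : A →ₐ[k] R) (a : A) (n : ℤ) :
    (Dyn.conjOrbit k A lam R g a).coeff n = g ((univ lam a).coeff n) := by
  have h := conjHom_natural lam A g (toConv (AlgHom.id k A))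
  rw [← conjOrbit_eq, show post g (toConv (AlgHom.id k A)) = toConv g from rfl, ← conjOrbit_eq] at h
  have h' := DFunLike.congr_fun (congrArg WithConv.ofConv h) a
  simp only [ofConv_post, ofConv_toConv, AlgHom.comp_apply] at h'
  rw [← h']
  simp [univ]

/-- `R[T] → R[T,T⁻¹]` -/
noncomputable abbrev toL : Polynomial R →ₐ[k] R[T;T⁻¹] :=
  (Polynomial.toLaurentAlg (R := R)).restrictScalars k

lemma toL_injective : Function.Injective (toL (k := k) R) := Polynomial.toLaurent_injective

lemma coeff_toL_neg (p : Polynomial R) {n : ℤ} (hn : n < 0) : (toL (k := k) R p).coeff n = 0 := by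
  change (Polynomial.toLaurent p).coeff n = 0
  rw [LaurentPolynomial.coeff_toLaurent]
  exact Finsupp.mapDomain_notin_range _ _ (by
    rintro ⟨m, hm⟩
    have : (m : ℤ) = n := hm
    omega)

lemma coeff_toL_zero (p : Polynomial R) : (toL (k := k) R p).coeff 0 = p.coeff 0 := by
  change (Polynomial.toLaurent p).coeff 0 = _
  rw [LaurentPolynomial.coeff_toLaurent, show (0 : ℤ) = Nat.castEmbedding (R := ℤ) 0 from rfl,
    Finsupp.mapDomain_apply Nat.castEmbedding.injective]
  rfl

lemma mem_range_toL (p : R[T;T⁻¹]) (hp : ∀ n < 0, p.coeff n = 0) : p ∈ (toL (k := k) R).range := by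
  classical
  rw [← AddMonoidAlgebra.sum_coeff_single p]
  refine sum_mem fun n hn => ?_
  have : 0 ≤ n := le_of_not_gt fun h => Finsupp.mem_support_iff.1 hn (hp n h)
  lift n to ℕ using this
  exact ⟨Polynomial.C (p.coeff (n : ℤ)) * Polynomial.X ^ n, by
    simpa using! (LaurentPolynomial.single_eq_C_mul_T (p.coeff (n : ℤ)) (n : ℤ)).symm⟩

lemma limExists_iff (g : A →ₐ[k] R) :
    Dyn.LimExists k A lam R g ↔ ∀ a, ∀ n < 0, (Dyn.conjOrbit k A lam R g a).coeff n = 0 := by
  refine ⟨fun ⟨h, hh⟩ a n hn => ?_, fun h => ?_⟩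
  · rw [← hh]; exact coeff_toL_neg (k := k) R (h a) hn
  · refine ⟨(AlgEquiv.ofInjective _ (toL_injective R)).symm.toAlgHom.comp
      ((Dyn.conjOrbit k A lam R g).codRestrict _ fun a => mem_range_toL R _ (h a)), AlgHom.ext fun a => ?_⟩
    have := congrArg Subtype.val ((AlgEquiv.ofInjective (toL (k := k) R) (toL_injective R)).apply_symm_apply
      ((Dyn.conjOrbit k A lam R g).codRestrict _ (fun a => mem_range_toL R _ (h a)) a))
    exact this

lemma limIsOne_iff (g : A →ₐ[k] R) :
    Dyn.LimIsOne k A lam R g ↔ Dyn.LimExists k A lam R g ∧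
      ∀ a, (Dyn.conjOrbit k A lam R g a).coeff 0 = algebraMap k R (Coalgebra.counit a) := by
  constructor
  · rintro ⟨h, hh, h0⟩
    refine ⟨⟨h, hh⟩, fun a => ?_⟩
    rw [← hh]
    refine (coeff_toL_zero (k := k) R (h a)).trans ?_
    have := DFunLike.congr_fun h0 a
    simpa [Polynomial.coe_aeval_eq_eval, Polynomial.coeff_zero_eq_eval_zero] using! this
  · rintro ⟨⟨h, hh⟩, h0⟩
    refine ⟨h, hh, AlgHom.ext fun a => ?_⟩
    have := (coeff_toL_zero (k := k) R (h a)).symm.trans
      ((congrArg (fun p : R[T;T⁻¹] => p.coeff 0) (DFunLike.congr_fun hh a)).trans (h0 a))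
    simpa [Polynomial.coe_aeval_eq_eval, Polynomial.coeff_zero_eq_eval_zero] using! this

end Conj

/-- the ideal of the attractor -/
noncomputable def negI : Ideal A := Ideal.span {c | ∃ (a : A) (n : ℤ), n < 0 ∧ c = (univ lam a).coeff n}

/-- the ideal of the contracted subgroup -/
noncomputable def oneI : Ideal A :=
  negI lam ⊔ Ideal.span {c | ∃ a : A, c = (univ lam a).coeff 0 - algebraMap k A (Coalgebra.counit a)}

lemma represents_negI : Dyn.Represents k A (negI lam) (fun R _ _ g => Dyn.LimExists k A lam R g) := by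
  intro R _ _ g
  show _ ↔ Dyn.LimExists k A lam R g
  rw [limExists_iff]
  refine ⟨fun h a n hn => ?_, fun h => ?_⟩
  · rw [conjOrbit_univ]; exact h _ (Ideal.subset_span ⟨a, n, hn, rfl⟩)
  · have hle : negI lam ≤ RingHom.ker g := Ideal.span_le.2 (by
      rintro _ ⟨a, n, hn, rfl⟩
      exact (conjOrbit_univ lam R g a n).symm.trans (h a n hn))
    exact fun a ha => hle ha

lemma represents_oneI : Dyn.Represents k A (oneI lam) (fun R _ _ g => Dyn.LimIsOne k A lam R g) := by
  intro R _ _ g
  show _ ↔ Dyn.LimIsOne k A lam R g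
  rw [limIsOne_iff, ← (show (∀ a ∈ negI lam, g a = 0) ↔ Dyn.LimExists k A lam R g from
    represents_negI lam R g)]
  constructor
  · intro h
    refine ⟨fun a ha => h a (Ideal.mem_sup_left ha), fun a => ?_⟩
    have := h _ (Ideal.mem_sup_right (Ideal.subset_span ⟨a, rfl⟩))
    rw [map_sub, AlgHom.commutes, sub_eq_zero] at this
    rw [conjOrbit_univ, this]
  · rintro ⟨h1, h2⟩
    have hle : oneI lam ≤ RingHom.ker g := sup_le (fun a ha => h1 a ha) (Ideal.span_le.2 (by
      rintro _ ⟨a, rfl⟩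
      simp [← conjOrbit_univ, h2]))
    exact fun a ha => hle ha

section Subgroup
variable {R : Type u} [CommRing R] [Algebra k R]

lemma limExists_conv_one : Dyn.LimExists k A lam R (1 : WithConv (A →ₐ[k] R)).ofConv := by
  refine ⟨(1 : WithConv (A →ₐ[k] Polynomial R)).ofConv, ?_⟩
  have := conjOrbit_eq lam R (1 : WithConv (A →ₐ[k] R)).ofConv
  rw [toConv_ofConv, map_one, ← map_one (post (A := A) (toL (k := k) R))] at this
  exact (congrArg WithConv.ofConv this).symm

lemma limExists_mul {f g : WithConv (A →ₐ[k] R)} (hf : Dyn.LimExists k A lam R f.ofConv)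
    (hg : Dyn.LimExists k A lam R g.ofConv) : Dyn.LimExists k A lam R (f * g).ofConv := by
  obtain ⟨a, ha⟩ := hf
  obtain ⟨b, hb⟩ := hg
  refine ⟨(toConv a * toConv b).ofConv, ?_⟩
  have := conjOrbit_eq lam R (f * g).ofConv
  rw [toConv_ofConv, map_mul, ← toConv_ofConv f, ← toConv_ofConv g, ← conjOrbit_eq, ← conjOrbit_eq,
    ← ha, ← hb] at this
  exact (congrArg WithConv.ofConv ((map_mul (post (toL R)) (toConv a) (toConv b)).trans this.symm))

lemma limExists_inv {f : WithConv (A →ₐ[k] R)} (hf : Dyn.LimExists k A lam R f.ofConv) :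
    Dyn.LimExists k A lam R f⁻¹.ofConv := by
  obtain ⟨a, ha⟩ := hf
  refine ⟨(toConv a)⁻¹.ofConv, ?_⟩
  have := conjOrbit_eq lam R f⁻¹.ofConv
  rw [toConv_ofConv, map_inv, ← toConv_ofConv f, ← conjOrbit_eq, ← ha] at this
  exact (congrArg WithConv.ofConv ((map_inv (post (toL R)) (toConv a)).trans this.symm))

/-- evaluation at zero -/
noncomputable abbrev ev0 : Polynomial R →ₐ[k] R := (Polynomial.aeval (R := R) (0 : R)).restrictScalars k

lemma limIsOne_conv_one : Dyn.LimIsOne k A lam R (1 : WithConv (A →ₐ[k] R)).ofConv := by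
  refine ⟨(1 : WithConv (A →ₐ[k] Polynomial R)).ofConv, ?_, congrArg WithConv.ofConv (map_one (post ev0))⟩
  have := conjOrbit_eq lam R (1 : WithConv (A →ₐ[k] R)).ofConv
  rw [toConv_ofConv, map_one, ← map_one (post (A := A) (toL (k := k) R))] at this
  exact (congrArg WithConv.ofConv this).symm

lemma limIsOne_mul {f g : WithConv (A →ₐ[k] R)} (hf : Dyn.LimIsOne k A lam R f.ofConv)
    (hg : Dyn.LimIsOne k A lam R g.ofConv) : Dyn.LimIsOne k A lam R (f * g).ofConv := by
  obtain ⟨a, ha, ha0⟩ := hf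
  obtain ⟨b, hb, hb0⟩ := hg
  refine ⟨(toConv a * toConv b).ofConv, ?_, ?_⟩
  · have := conjOrbit_eq lam R (f * g).ofConv
    rw [toConv_ofConv, map_mul, ← toConv_ofConv f, ← toConv_ofConv g, ← conjOrbit_eq, ← conjOrbit_eq,
      ← ha, ← hb] at this
    exact (congrArg WithConv.ofConv ((map_mul (post (toL R)) (toConv a) (toConv b)).trans this.symm))
  · have h1 : post ev0 (toConv a) = 1 := WithConv.ofConv_injective ha0
    have h2 : post ev0 (toConv b) = 1 := WithConv.ofConv_injective hb0
    exact congrArg WithConv.ofConv ((map_mul (post (A := A) (ev0 (k := k) (R := R))) (toConv a) (toConv b)).trans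
      (by rw [h1, h2, one_mul]; rfl))

lemma limIsOne_inv {f : WithConv (A →ₐ[k] R)} (hf : Dyn.LimIsOne k A lam R f.ofConv) :
    Dyn.LimIsOne k A lam R f⁻¹.ofConv := by
  obtain ⟨a, ha, ha0⟩ := hf
  refine ⟨(toConv a)⁻¹.ofConv, ?_, ?_⟩
  · have := conjOrbit_eq lam R f⁻¹.ofConv
    rw [toConv_ofConv, map_inv, ← toConv_ofConv f, ← conjOrbit_eq, ← ha] at this
    exact (congrArg WithConv.ofConv ((map_inv (post (toL R)) (toConv a)).trans this.symm))
  · have h1 : post ev0 (toConv a) = 1 := WithConv.ofConv_injective ha0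
    exact congrArg WithConv.ofConv ((map_inv (post (A := A) (ev0 (k := k) (R := R))) (toConv a)).trans
      (by rw [h1, inv_one]; rfl))

end Subgroup

/-- An ideal representing a subgroup functor is a Hopf ideal. -/
theorem isHopfIdeal_of_represents (J : Ideal A)
    (P : ∀ (R : Type u) [CommRing R] [Algebra k R], (A →ₐ[k] R) → Prop) (hJ : Dyn.Represents k A J P)
    (h1 : ∀ (R : Type u) [CommRing R] [Algebra k R], P R (1 : WithConv (A →ₐ[k] R)).ofConv)
    (hmul : ∀ (R : Type u) [CommRing R] [Algebra k R] (f g : WithConv (A →ₐ[k] R)),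
      P R f.ofConv → P R g.ofConv → P R (f * g).ofConv)
    (hinv : ∀ (R : Type u) [CommRing R] [Algebra k R] (f : WithConv (A →ₐ[k] R)),
      P R f.ofConv → P R f⁻¹.ofConv) : J.IsHopfIdeal k := by
  let q : A →ₐ[k] A ⧸ J := Ideal.Quotient.mkₐ k J
  have hq : P (A ⧸ J) q := (hJ _ q).1 fun a ha => Ideal.Quotient.eq_zero_iff_mem.2 ha
  refine { counit_eq_zero := fun x hx => ?_, map_mkQ_comul_eq_zero := fun x hx => ?_, antipode_mem := ?_ }
  · simpa [AlgHom.convOne_def] using! (hJ k _).2 (h1 k) x hx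
  · let q₁ : A →ₐ[k] (A ⧸ J) ⊗[k] (A ⧸ J) := Algebra.TensorProduct.includeLeft.comp q
    let q₂ : A →ₐ[k] (A ⧸ J) ⊗[k] (A ⧸ J) := Algebra.TensorProduct.includeRight.comp q
    have h₁ : P _ q₁ := (hJ _ q₁).1 fun a ha => by
      simp only [q₁, AlgHom.comp_apply, show q a = 0 from Ideal.Quotient.eq_zero_iff_mem.2 ha, map_zero]
    have h₂ : P _ q₂ := (hJ _ q₂).1 fun a ha => by
      simp only [q₂, AlgHom.comp_apply, show q a = 0 from Ideal.Quotient.eq_zero_iff_mem.2 ha, map_zero]
    have h := (hJ _ _).2 (hmul _ (toConv q₁) (toConv q₂) h₁ h₂) x hx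
    have hmap : (Algebra.TensorProduct.lmul' k).comp (Algebra.TensorProduct.map q₁ q₂) =
        Algebra.TensorProduct.map q q := by ext <;> simp [q₁, q₂]
    rw [AlgHom.convMul_def] at h
    simp only [ofConv_toConv, ← AlgHom.comp_assoc, hmap] at h
    let ψ : (A ⧸ J) →ₗ[k] A ⧸ J.restrictScalars k :=
      (Submodule.Quotient.restrictScalarsEquiv k J).symm.toLinearMap
    have hψ : (J.restrictScalars k).mkQ = ψ ∘ₗ q.toLinearMap := LinearMap.ext fun a => rfl
    rw [hψ, TensorProduct.map_comp, LinearMap.comp_apply]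
    refine (congrArg _ ?_).trans (map_zero _)
    exact h
  · intro x hx
    exact Ideal.Quotient.eq_zero_iff_mem.1 ((hJ _ _).2 (hinv _ (toConv q) hq) x hx)

theorem isHopfIdeal_negI : (negI lam).IsHopfIdeal k :=
  isHopfIdeal_of_represents _ _ (represents_negI lam) (fun _ _ _ => limExists_conv_one lam)
    (fun _ _ _ _ _ => limExists_mul lam) (fun _ _ _ _ => limExists_inv lam)

theorem isHopfIdeal_oneI : (oneI lam).IsHopfIdeal k :=
  isHopfIdeal_of_represents _ _ (represents_oneI lam) (fun _ _ _ => limIsOne_conv_one lam)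
    (fun _ _ _ _ _ => limIsOne_mul lam) (fun _ _ _ _ => limIsOne_inv lam)

end Groth.Misc1.Dyn
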