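import Groth.Agent.Misc1.Dyn.Stabilizer

/-!
# The attractor and the contracted subgroup in matrix coordinates
-/

set_option autoImplicit false
set_option linter.style.haveILetI false

universe u

open TensorProduct WithConv

namespace Groth.Misc1.Dyn

variable {k : Type u} [Field k] {A : Type u} [CommRing A] [HopfAlgebra k A]
  {lam : A →ₐc[k] LaurentPolynomial k} {n : ℕ} (W : WCoord lam n)

/-- the coordinates for the opposite one-parameter subgroup -/
noncomputable def WCoord.neg (lamNeg : A →ₐc[k] LaurentPolynomial k)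
    (hneg : (lamNeg : A →ₐ[k] LaurentPolynomial k) = Dyn.negParam k A lam) : WCoord lamNeg n where
  w := fun i => -W.w i
  c := W.c
  comul_c := W.comul_c
  counit_c := W.counit_c
  lam_c i j := by
    change (lamNeg : A →ₐ[k] LaurentPolynomial k) (W.c i j) = _
    rw [hneg, Dyn.negParam, AlgHom.comp_apply]
    change LaurentPolynomial.invert (lam (W.c i j)) = _
    rw [W.lam_c, apply_ite LaurentPolynomial.invert, map_zero, LaurentPolynomial.invert_T]
  adjoin_c := W.adjoin_c

variable {R : Type u} [CommRing R] [Algebra k R]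

lemma matOf_L (s : Rˣ) :
    matOf W (L lam s) = Matrix.diagonal fun i => ((s ^ W.w i : Rˣ) : R) := by
  ext i j
  rw [matOf, L, ofConv_toConv, AlgHom.comp_apply]
  change ev s (lam (W.c i j)) = _
  rw [W.lam_c, apply_ite (ev (k := k) s), map_zero, ev_T, Matrix.diagonal_apply]
  split_ifs with h
  · rw [h]
  · rfl

lemma conjOrbit_c (g : A →ₐ[k] R) (i j : Fin n) :
    Dyn.conjOrbit k A lam R g (W.c i j) = AddMonoidAlgebra.single (W.w i - W.w j) (g (W.c i j)) := by
  have h : Dyn.conjOrbit k A lam R g (W.c i j) = matOf W (conjHom lam R (toConv g)) i j := by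
    rw [← conjOrbit_eq]; rfl
  rw [h, conjHom, MonoidHom.comp_apply, orb_apply, matOf_mul, matOf_mul, matOf_L, matOf_L, matOf_post,
    Matrix.mul_diagonal, Matrix.diagonal_mul, inv_zpow', tU_zpow, tU_zpow, Matrix.map_apply,
    mul_comm (LaurentPolynomial.T _) _, mul_assoc, ← LaurentPolynomial.T_add,
    LaurentPolynomial.single_eq_C_mul_T, sub_eq_add_neg]
  simp [matOf, cst, LaurentPolynomial.algebraMap_apply]

theorem limExists_iff_matOf (g : A →ₐ[k] R) :
    Dyn.LimExists k A lam R g ↔ ∀ i j, W.w i < W.w j → g (W.c i j) = 0 := by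
  rw [limExists_iff]
  constructor
  · intro h i j hij
    have := h (W.c i j) (W.w i - W.w j) (by omega)
    rw [conjOrbit_c] at this
    simpa [-LaurentPolynomial.single_eq_C_mul_T] using this
  · intro h a
    let S : Subalgebra k A := (toL (k := k) R).range.comap (Dyn.conjOrbit k A lam R g)
    have hS : (⊤ : Subalgebra k A) ≤ S := by
      rw [← W.adjoin_c]
      refine Algebra.adjoin_le ?_
      rintro _ ⟨p, rfl⟩
      refine mem_range_toL R _ fun m hm => ?_
      show (Dyn.conjOrbit k A lam R g (W.c p.1 p.2)).coeff m = 0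
      rw [conjOrbit_c]
      rcases eq_or_ne (W.w p.1 - W.w p.2) m with rfl | hne
      · simpa [-LaurentPolynomial.single_eq_C_mul_T] using h p.1 p.2 (by omega)
      · simp [-LaurentPolynomial.single_eq_C_mul_T, Ne.symm hne]
    intro m hm
    obtain ⟨q, hq⟩ : Dyn.conjOrbit k A lam R g a ∈ (toL (k := k) R).range := hS Algebra.mem_top
    rw [← hq]
    exact coeff_toL_neg R q hm

theorem limIsOne_iff_matOf (g : A →ₐ[k] R) :
    Dyn.LimIsOne k A lam R g ↔ ∀ i j, ¬W.w j < W.w i → g (W.c i j) = if i = j then 1 else 0 := by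
  constructor
  · intro h i j hij
    obtain ⟨h1, h2⟩ := (limIsOne_iff lam R g).1 h
    rcases lt_or_eq_of_le (not_lt.1 hij) with hlt | heq
    · rw [(limExists_iff_matOf W g).1 h1 i j hlt, if_neg (fun e : i = j => (ne_of_lt hlt) (congrArg W.w e))]
    · have h3 := h2 (W.c i j)
      simp only [conjOrbit_c, W.counit_c, apply_ite (algebraMap k R), map_one, map_zero, heq, sub_self] at h3
      simpa [-LaurentPolynomial.single_eq_C_mul_T] using h3
  · intro h
    have hex : Dyn.LimExists k A lam R g := (limExists_iff_matOf W g).2 fun i j hij => by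
      rw [h i j (not_lt.2 hij.le), if_neg (fun e : i = j => (ne_of_lt hij) (congrArg W.w e))]
    obtain ⟨q, hq⟩ := hex
    refine ⟨q, hq, AlgHom.ext_of_adjoin_eq_top W.adjoin_c ?_⟩
    rintro _ ⟨⟨i, j⟩, rfl⟩
    have h0 := (coeff_toL_zero (k := k) R (q (W.c i j))).symm.trans
      (congrArg (fun f : A →ₐ[k] LaurentPolynomial R => (f (W.c i j)).coeff 0) hq)
    simp only [conjOrbit_c] at h0
    simp only [AlgHom.comp_apply, AlgHom.restrictScalars_apply, Polynomial.coe_aeval_eq_eval,
      ← Polynomial.coeff_zero_eq_eval_zero, Bialgebra.counitAlgHom_apply,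
      W.counit_c]
    rw [h0]
    rcases eq_or_ne (W.w i) (W.w j) with heq | hne
    · rw [heq, sub_self, AddMonoidAlgebra.coeff_single, Finsupp.single_eq_same, h i j (not_lt.2 heq.le),
        apply_ite (Algebra.ofId k R), map_one, map_zero]
    · rw [AddMonoidAlgebra.coeff_single, Finsupp.single_eq_of_ne (by omega),
        if_neg (fun e : i = j => hne (e ▸ rfl)), map_zero]

theorem isUpperW_iff {g : WithConv (A →ₐ[k] R)} :
    IsUpperW W (matOf W g) ↔ Dyn.LimExists k A lam R g.ofConv :=
  (limExists_iff_matOf W g.ofConv).symm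

theorem isUniLowerW_iff {lamNeg : A →ₐc[k] LaurentPolynomial k}
    (hneg : (lamNeg : A →ₐ[k] LaurentPolynomial k) = Dyn.negParam k A lam) {g : WithConv (A →ₐ[k] R)} :
    IsUniLowerW W (matOf W g) ↔ Dyn.LimIsOne k A lamNeg R g.ofConv := by
  rw [limIsOne_iff_matOf (W.neg lamNeg hneg) g.ofConv]
  simp [IsUniLowerW, WCoord.neg, matOf, Matrix.one_apply]

end Groth.Misc1.Dyn
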