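import Groth.Agent.Misc1.Dyn.Orbit
import Groth.Agent.Hopf.GLnHom

/-!
# A faithful matrix coordinate system adapted to a one-parameter subgroup
-/

set_option autoImplicit false
set_option linter.style.haveILetI false

universe u v

open LaurentPolynomial TensorProduct WithConv Groth.ComodLib

namespace Groth.Misc1.Dyn

variable {k : Type u} [Field k] {A : Type u} [CommRing A] [HopfAlgebra k A]

/-- coefficient of `T ^ m` -/
noncomputable def lcf (m : ℤ) : k[T;T⁻¹] →ₗ[k] k where
  toFun p := p.coeff m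
  map_add' _ _ := by simp
  map_smul' _ _ := by simp

lemma lcf_T (m n : ℤ) : lcf (k := k) m (T n) = if n = m then 1 else 0 := by
  simp [lcf, T, -single_eq_C_mul_T, Finsupp.single_apply]

lemma lcf_single (m n : ℤ) (r : k) :
    lcf (k := k) m (AddMonoidAlgebra.single n r) = if n = m then r else 0 := by
  simp [lcf, -single_eq_C_mul_T, Finsupp.single_apply]

lemma lcf_mul_comul (m l : ℤ) (p : k[T;T⁻¹]) :
    LinearMap.mul' k k (TensorProduct.map (lcf m) (lcf l) (Coalgebra.comul (R := k) p)) =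
      if m = l then lcf m p else 0 := by
  induction p using LaurentPolynomial.induction_on' with
  | add p q hp hq => simp only [map_add, hp, hq]; split_ifs <;> simp
  | C_mul_T n r =>
    rw [← LaurentPolynomial.smul_eq_C_mul, map_smul, LaurentPolynomial.comul_T]
    simp only [map_smul, TensorProduct.map_tmul, LinearMap.mul'_apply, lcf_T]
    split_ifs <;> simp_all

lemma sum_lcf (p : k[T;T⁻¹]) (S : Finset ℤ) (hS : ∀ m, lcf m p ≠ 0 → m ∈ S) :
    ∑ m ∈ S, lcf m p = Coalgebra.counit (R := k) p := by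
  classical
  have hsub : p.coeff.support ⊆ S := fun m hm => hS m (Finsupp.mem_support_iff.1 hm)
  have hp : p = ∑ n ∈ S, p.coeff n • T n := by
    conv_lhs => rw [← AddMonoidAlgebra.sum_coeff_single p]
    rw [Finsupp.sum_of_support_subset _ hsub _ (fun _ _ => by simp)]
    exact Finset.sum_congr rfl fun n _ => by simp [T, -single_eq_C_mul_T]
  conv_rhs => rw [hp]
  simp [lcf]

variable (lam : A →ₐc[k] k[T;T⁻¹])

section Basis
variable {V : Type v} [AddCommGroup V] [Module k V] [HopfRep.Comod k A V] [Module.Finite k V]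

/-- the projection on the vectors of weight `m` -/
noncomputable def wproj (m : ℤ) : Module.End k V :=
  op (lcf m ∘ₗ (lam : A →ₐ[k] k[T;T⁻¹]).toLinearMap)

omit [Module.Finite k V] in
lemma wproj_wproj (m l : ℤ) (x : V) :
    wproj lam m (wproj lam l x) = if m = l then wproj lam m x else 0 := by
  have h := op_mul (toConv (lcf m ∘ₗ (lam : A →ₐ[k] k[T;T⁻¹]).toLinearMap))
    (toConv (lcf l ∘ₗ (lam : A →ₐ[k] k[T;T⁻¹]).toLinearMap)) x
  simp only [ofConv_toConv] at h
  rw [wproj, wproj, ← h]
  have hc : (toConv (lcf m ∘ₗ (lam : A →ₐ[k] k[T;T⁻¹]).toLinearMap) *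
      toConv (lcf l ∘ₗ (lam : A →ₐ[k] k[T;T⁻¹]).toLinearMap)).ofConv =
      if m = l then lcf m ∘ₗ (lam : A →ₐ[k] k[T;T⁻¹]).toLinearMap else 0 := by
    refine LinearMap.ext fun a => ?_
    rw [LinearMap.convMul_def]
    simp only [ofConv_toConv, LinearMap.comp_apply, TensorProduct.map_comp]
    have hl := CoalgHomClass.map_comp_comul_apply (R := k) lam a
    change LinearMap.mul' k k (TensorProduct.map (lcf m) (lcf l)
      (TensorProduct.map (lam : A →ₗc[k] k[T;T⁻¹]).toLinearMap (lam : A →ₗc[k] k[T;T⁻¹]).toLinearMap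
        (Coalgebra.comul (R := k) a))) = _
    rw [show TensorProduct.map (lam : A →ₗc[k] k[T;T⁻¹]).toLinearMap (lam : A →ₗc[k] k[T;T⁻¹]).toLinearMap
      (Coalgebra.comul (R := k) a) = Coalgebra.comul (R := k) (lam a) from hl, lcf_mul_comul]
    split_ifs <;> rfl
  rw [hc]
  split_ifs
  · rfl
  · exact (map_zero (sliceL A _))

omit [Module.Finite k V] in
lemma lcf_lam_cfMat {n : ℕ} (b : Module.Basis (Fin n) k V) (m : ℤ) (i j : Fin n) :
    lcf m (lam (cfMat (A := A) b i j)) = b.coord i (wproj lam m (b j)) :=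
  apply_cf (lcf m ∘ₗ (lam : A →ₐ[k] k[T;T⁻¹]).toLinearMap) (b.coord i) (b j)

lemma exists_sum_wproj : ∃ S : Finset ℤ, ∀ x : V, ∑ m ∈ S, wproj lam m x = x := by
  classical
  let b := Module.finBasis k V
  refine ⟨Finset.univ.biUnion fun p : Fin _ × Fin _ =>
    (lam (cfMat (A := A) b p.1 p.2) : k[T;T⁻¹]).coeff.support, fun x => ?_⟩
  set S := Finset.univ.biUnion fun p : Fin _ × Fin _ =>
    (lam (cfMat (A := A) b p.1 p.2) : k[T;T⁻¹]).coeff.support
  suffices h : ∑ m ∈ S, wproj lam m = (1 : Module.End k V) by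
    simpa using! congrArg (fun e : Module.End k V => e x) h
  refine b.ext fun j => b.ext_elem fun i => ?_
  simp only [LinearMap.coe_sum, Finset.sum_apply, Module.End.one_apply]
  rw [map_sum, Finsupp.finsetSum_apply]
  simp only [← Module.Basis.coord_apply, ← lcf_lam_cfMat]
  rw [sum_lcf _ S fun m hm => Finset.mem_biUnion.2 ⟨(i, j), Finset.mem_univ _, Finsupp.mem_support_iff.2 hm⟩]
  rw [CoalgHomClass.counit_comp_apply, counit_cfMat, Module.Basis.coord_apply, Module.Basis.repr_self,
    Finsupp.single_apply]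
  simp [eq_comm]

/-- a basis of weight vectors -/
theorem exists_weight_basis : ∃ (n : ℕ) (b : Module.Basis (Fin n) k V) (w : Fin n → ℤ),
    ∀ i j, lam (cfMat (A := A) b i j) = if i = j then T (w j) else 0 := by
  classical
  obtain ⟨S, hS⟩ := exists_sum_wproj (V := V) lam
  let t : Set V := {v | ∃ m : ℤ, ∀ l, wproj lam l v = if l = m then v else 0}
  obtain ⟨s, hst, hspan, hli⟩ := exists_linearIndependent k t
  have ht : ⊤ ≤ Submodule.span k (Set.range ((↑) : s → V)) := by
    rw [Subtype.range_coe, hspan]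
    intro x _
    rw [← hS x]
    refine Submodule.sum_mem _ fun m _ => Submodule.subset_span ⟨m, fun l => ?_⟩
    rw [wproj_wproj]
    split_ifs with h
    · rw [h]
    · rfl
  let b₀ := Module.Basis.mk hli ht
  haveI : Fintype s := FiniteDimensional.fintypeBasisIndex b₀
  let b := b₀.reindex (Fintype.equivFin s)
  have hb : ∀ j, b j ∈ t := fun j => by
    rw [Module.Basis.reindex_apply, Module.Basis.mk_apply]
    exact hst ((Fintype.equivFin s).symm j).2
  choose w hw using hb
  refine ⟨_, b, w, fun i j => ?_⟩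
  apply AddMonoidAlgebra.ext
  ext m
  change lcf m (lam (cfMat (A := A) b i j)) = lcf m (if i = j then T (w j) else 0)
  rw [lcf_lam_cfMat, hw, apply_ite (lcf m), lcf_T, map_zero, apply_ite (b.coord i), map_zero,
    Module.Basis.coord_apply, Module.Basis.repr_self, Finsupp.single_apply]
  by_cases h : i = j
  · subst h
    by_cases h' : m = w i
    · rw [if_pos h', if_pos rfl, if_pos rfl, if_pos h'.symm]
    · rw [if_neg h', if_pos rfl, if_neg (Ne.symm h')]
  · rw [if_neg (fun e : j = i => h e.symm), if_neg h]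
    split_ifs <;> rfl

end Basis

/-- Coordinates of `G` adapted to the one-parameter subgroup. -/
structure WCoord (n : ℕ) where
  /-- the weights -/
  w : Fin n → ℤ
  /-- the entries -/
  c : Matrix (Fin n) (Fin n) A
  comul_c : ∀ i j, Coalgebra.comul (R := k) (c i j) = ∑ l, c i l ⊗ₜ[k] c l j
  counit_c : ∀ i j, Coalgebra.counit (R := k) (c i j) = if i = j then (1 : k) else 0
  lam_c : ∀ i j, lam (c i j) = if i = j then T (w j) else 0
  adjoin_c : Algebra.adjoin k (Set.range fun p : Fin n × Fin n => c p.1 p.2) = ⊤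

theorem exists_wcoord [Algebra.FiniteType k A] : ∃ n : ℕ, Nonempty (WCoord lam n) := by
  obtain ⟨s, hs⟩ := Algebra.FiniteType.out (R := k) (A := A)
  obtain ⟨W, hfin, hsW, hW⟩ := exists_finite_subcomod_span (k := k) (A := A) (V := A) s.finite_toSet
  let c : HopfRep.Comod k A A := inferInstance
  let d := ComodSub.Comod.restr c W hW
  have hsub : Hoch.IsComodHom A W.subtype := ComodSub.isComodHom_subtype c W hW
  obtain ⟨n, b, w, hw⟩ := exists_weight_basis (V := W) lam
  refine ⟨n, ⟨⟨w, cfMat (A := A) b, comul_cfMat b, counit_cfMat b, hw, ?_⟩⟩⟩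
  refine top_le_iff.1 (hs ▸ Algebra.adjoin_le fun x hx => ?_)
  have h1 : x ∈ coeff k A W := range_le_coeff hsub ⟨⟨x, hsW hx⟩, rfl⟩
  have h2 : coeff k A W ≤ Subalgebra.toSubmodule
      (Algebra.adjoin k (Set.range fun p : Fin n × Fin n => cfMat (A := A) b p.1 p.2)) := by
    refine iSup_le fun ψ => ?_
    rintro _ ⟨y, rfl⟩
    refine Submodule.span_le.2 ?_ (cf_mem_span_cfMat b ψ y)
    rintro _ ⟨p, rfl⟩
    exact Algebra.subset_adjoin ⟨p, rfl⟩
  exact h2 h1

end Groth.Misc1.Dyn
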