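import Groth.Agent.Misc1.Dyn.Filtration
import Groth.Agent.Misc1.Dyn.WeightMat

/-!
# A product `U * P` in the group with triangular factors has both factors in the group
-/

set_option autoImplicit false
set_option linter.style.haveILetI false

universe u

open TensorProduct WithConv MvPolynomial

namespace Groth.Misc1.Dyn

variable {k : Type u} [Field k] {A : Type u} [CommRing A] [HopfAlgebra k A]
  {lam : A →ₐc[k] LaurentPolynomial k} {n : ℕ} (W : WCoord lam n)

section Points
variable {R : Type u} [CommRing R] [Algebra k R]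

/-- the matrix of a point -/
def matOf (g : WithConv (A →ₐ[k] R)) : Matrix (Fin n) (Fin n) R := fun i j => g.ofConv (W.c i j)

lemma matOf_mul (f g : WithConv (A →ₐ[k] R)) : matOf W (f * g) = matOf W f * matOf W g := by
  ext i j
  simp [matOf, Matrix.mul_apply, AlgHom.convMul_def, W.comul_c]

lemma matOf_one : matOf W (1 : WithConv (A →ₐ[k] R)) = 1 := by
  ext i j
  simp only [matOf, AlgHom.convOne_def, ofConv_toConv, AlgHom.comp_apply, Bialgebra.counitAlgHom_apply,
    W.counit_c, Matrix.one_apply]
  split_ifs <;> simp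

lemma matOf_injective : Function.Injective (matOf (R := R) W) := fun f g h =>
  WithConv.ofConv_injective (AlgHom.ext_of_adjoin_eq_top W.adjoin_c (by
    rintro _ ⟨p, rfl⟩
    exact congrFun (congrFun h p.1) p.2))

lemma matOf_post {R' : Type u} [CommRing R'] [Algebra k R'] (φ : R →ₐ[k] R') (g : WithConv (A →ₐ[k] R)) :
    matOf W (post φ g) = (matOf W g).map φ := rfl

lemma matOf_inv_mul (g : WithConv (A →ₐ[k] R)) : matOf W g⁻¹ * matOf W g = 1 := by
  rw [← matOf_mul, inv_mul_cancel, matOf_one]

lemma isUnit_det_matOf (g : WithConv (A →ₐ[k] R)) : IsUnit (matOf W g).det :=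
  IsUnit.of_mul_eq_one_right (matOf W g⁻¹).det (by rw [← Matrix.det_mul, matOf_inv_mul, Matrix.det_one])

/-- block shape of the parabolic -/
def IsUpperW (P : Matrix (Fin n) (Fin n) R) : Prop := ∀ i j, W.w i < W.w j → P i j = 0

/-- shape of the opposite unipotent group -/
def IsUniLowerW (U : Matrix (Fin n) (Fin n) R) : Prop :=
  ∀ i j, ¬W.w i < W.w j → U i j = (1 : Matrix (Fin n) (Fin n) R) i j

omit [Algebra k R] in
lemma IsUniLowerW.det_eq_one {U : Matrix (Fin n) (Fin n) R} (hU : IsUniLowerW W U) : U.det = 1 := by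
  have hbt : U.BlockTriangular W.w := fun i j h => by
    rw [hU i j (not_lt.2 h.le), Matrix.one_apply_ne]
    rintro rfl
    exact lt_irrefl _ h
  rw [hbt.det]
  refine Finset.prod_eq_one fun a _ => ?_
  rw [show U.toSquareBlock W.w a = 1 from ?_, Matrix.det_one]
  ext ⟨i, hi⟩ ⟨j, hj⟩
  rw [Matrix.toSquareBlock_def]
  simp only [Matrix.of_apply]
  rw [hU i j (by rw [show W.w i = a from hi, show W.w j = a from hj]; exact lt_irrefl _)]
  simp [Matrix.one_apply]

omit [Algebra k R] in
lemma IsUpperW.inv {P : Matrix (Fin n) (Fin n) R} (hP : IsUpperW W P) (hdet : IsUnit P.det) :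
    IsUpperW W P⁻¹ := by
  have hbt : P.BlockTriangular (fun i => -W.w i) := fun i j h => hP i j (by simpa using h)
  haveI : Invertible P := P.invertibleOfIsUnitDet hdet
  exact fun i j h => Matrix.blockTriangular_inv_of_blockTriangular hbt (by simpa using h)

end Points

/-- the weight of a variable -/
def wσ (p : Fin n × Fin n) : ℤ := W.w p.2

/-- the coordinate presentation -/
noncomputable def pres : MvPolynomial (Fin n × Fin n) k →ₐ[k] A := aeval fun p => W.c p.1 p.2

lemma pres_surjective : Function.Surjective (pres W) := by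
  rw [← AlgHom.range_eq_top, pres, ← Algebra.adjoin_range_eq_range_aeval]
  exact W.adjoin_c

section Rho
variable {R : Type u} [CommRing R] [Algebra k R]

/-- right translation by a matrix on the coordinate ring of the matrix space -/
noncomputable def rho (M : Matrix (Fin n) (Fin n) R) :
    MvPolynomial (Fin n × Fin n) R →ₐ[R] MvPolynomial (Fin n × Fin n) R :=
  aeval fun p => ∑ l, X (p.1, l) * C (M l p.2)

omit [Algebra k R] in
lemma rho_X (M : Matrix (Fin n) (Fin n) R) (i j : Fin n) :
    rho M (X (i, j)) = ∑ l, X (i, l) * C (M l j) := aeval_X _ _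

omit [Algebra k R] in
lemma rho_mul (M N : Matrix (Fin n) (Fin n) R) (x : MvPolynomial (Fin n × Fin n) R) :
    rho (M * N) x = rho M (rho N x) := by
  have : rho (M * N) = (rho M).comp (rho N) := by
    refine MvPolynomial.algHom_ext fun ⟨i, j⟩ => ?_
    rw [AlgHom.comp_apply, rho_X, rho_X, map_sum]
    simp only [map_mul, rho_X, ← algebraMap_eq, AlgHom.commutes, Finset.sum_mul]
    simp only [algebraMap_eq, Matrix.mul_apply, map_sum, Finset.mul_sum, map_mul]
    rw [Finset.sum_comm]
    exact Finset.sum_congr rfl fun l _ => Finset.sum_congr rfl fun m _ => by ring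
  rw [this]; rfl

omit [Algebra k R] in
lemma rho_one (x : MvPolynomial (Fin n × Fin n) R) : rho (1 : Matrix (Fin n) (Fin n) R) x = x := by
  have : rho (1 : Matrix (Fin n) (Fin n) R) = AlgHom.id R _ := by
    refine MvPolynomial.algHom_ext fun ⟨i, j⟩ => ?_
    rw [AlgHom.id_apply, rho_X, Finset.sum_eq_single j (fun l _ hl => by rw [Matrix.one_apply_ne hl]; simp)
      (fun h => absurd (Finset.mem_univ j) h), Matrix.one_apply_eq, C_1, mul_one]
  rw [this]; rfl

/-- coefficient extension -/
noncomputable def mapR : MvPolynomial (Fin n × Fin n) k →ₐ[k] MvPolynomial (Fin n × Fin n) R :=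
  aeval X

lemma mapR_monomial (α : (Fin n × Fin n) →₀ ℕ) (r : k) :
    mapR (R := R) (monomial α r) = monomial α (algebraMap k R r) := by
  rw [mapR, aeval_monomial, MvPolynomial.monomial_eq (a := algebraMap k R r),
    IsScalarTower.algebraMap_apply k R (MvPolynomial (Fin n × Fin n) R)]
  rfl

lemma coeff_mapR (α : (Fin n × Fin n) →₀ ℕ) (f : MvPolynomial (Fin n × Fin n) k) :
    coeff α (mapR (R := R) f) = algebraMap k R (coeff α f) := by
  induction f using MvPolynomial.induction_on' with
  | monomial β r => rw [mapR_monomial, coeff_monomial, coeff_monomial, apply_ite (algebraMap k R), map_zero]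
  | add p q hp hq => simp only [map_add, coeff_add, hp, hq]

/-- the coordinates of the group over `R` -/
noncomputable def presR : MvPolynomial (Fin n × Fin n) R →ₐ[R] R ⊗[k] A :=
  aeval fun p => 1 ⊗ₜ W.c p.1 p.2

lemma presR_mapR (f : MvPolynomial (Fin n × Fin n) k) : presR W (R := R) (mapR f) = 1 ⊗ₜ pres W f := by
  have : ((presR W (R := R)).restrictScalars k).comp mapR =
      (Algebra.TensorProduct.includeRight (R := k) (A := R)).comp (pres W) :=
    MvPolynomial.algHom_ext fun p => by simp [presR, mapR, pres]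
  exact DFunLike.congr_fun this f

lemma presR_rho_mapR (g : WithConv (A →ₐ[k] R)) (f : MvPolynomial (Fin n × Fin n) k) :
    presR W (R := R) (rho (matOf W g) (mapR f)) =
      (toConv (Algebra.TensorProduct.includeRight (R := k) (A := R) (B := A)) *
        post (Algebra.TensorProduct.includeLeft (S := k)) g).ofConv (pres W f) := by
  have : ((presR W (R := R)).restrictScalars k).comp (((rho (matOf W g)).restrictScalars k).comp mapR) =
      (toConv (Algebra.TensorProduct.includeRight (R := k) (A := R) (B := A)) *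
        post (Algebra.TensorProduct.includeLeft (S := k)) g).ofConv.comp (pres W) := by
    refine MvPolynomial.algHom_ext fun ⟨i, j⟩ => ?_
    simp only [AlgHom.comp_apply, AlgHom.restrictScalars_apply, mapR, pres, aeval_X, rho_X, map_sum, map_mul]
    change _ = matOf W (toConv (Algebra.TensorProduct.includeRight (R := k) (A := R) (B := A)) *
        post (Algebra.TensorProduct.includeLeft (S := k)) g) i j
    rw [matOf_mul, Matrix.mul_apply]
    refine Finset.sum_congr rfl fun l _ => ?_
    simp [presR, matOf]
  exact DFunLike.congr_fun this f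

/-- evaluation at the identity matrix -/
noncomputable def evI : MvPolynomial (Fin n × Fin n) R →ₐ[R] R :=
  aeval fun p => (1 : Matrix (Fin n) (Fin n) R) p.1 p.2

lemma evI_rho_mapR (P : Matrix (Fin n) (Fin n) R) (f : MvPolynomial (Fin n × Fin n) k) :
    evI (rho P (mapR f)) = aeval (fun p : Fin n × Fin n => P p.1 p.2) f := by
  have : ((evI (R := R)).restrictScalars k).comp (((rho P).restrictScalars k).comp mapR) =
      aeval (fun p : Fin n × Fin n => P p.1 p.2) := by
    refine MvPolynomial.algHom_ext fun ⟨i, j⟩ => ?_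
    simp only [AlgHom.comp_apply, AlgHom.restrictScalars_apply, mapR, aeval_X, rho_X, map_sum, map_mul]
    simp [evI, Matrix.one_apply]
  exact DFunLike.congr_fun this f

lemma evI_mapR (f : MvPolynomial (Fin n × Fin n) k) :
    evI (mapR (R := R) f) = algebraMap k R (Coalgebra.counit (pres W f)) := by
  have : ((evI (R := R)).restrictScalars k).comp mapR =
      (Algebra.ofId k R).comp ((Bialgebra.counitAlgHom k A).comp (pres W)) := by
    refine MvPolynomial.algHom_ext fun ⟨i, j⟩ => ?_
    simp only [AlgHom.comp_apply, AlgHom.restrictScalars_apply, mapR, pres, aeval_X, evI,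
      Bialgebra.counitAlgHom_apply, W.counit_c, Matrix.one_apply]
    split_ifs <;> simp
  exact DFunLike.congr_fun this f

end Rho

section Span
variable (D : ℕ) (R : Type u) [CommRing R] [Algebra k R]

/-- a lower bound for all weights in degree `≤ D` -/
def lowB : ℤ := -((D : ℤ) * ∑ p, |wσ W p|)

/-- the equations of degree at most `D` -/
noncomputable def kerD : Submodule k (MvPolynomial (Fin n × Fin n) k) :=
  LinearMap.ker (pres W).toLinearMap ⊓ Fil (wσ W) k D (lowB W D)

/-- their span over `R` -/
noncomputable def spanD : Submodule R (MvPolynomial (Fin n × Fin n) R) :=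
  Submodule.span R (mapR '' (kerD W D : Set (MvPolynomial (Fin n × Fin n) k)))

variable {R}

lemma mapR_mem_Fil {a : ℕ} {b : ℤ} {f : MvPolynomial (Fin n × Fin n) k} (hf : f ∈ Fil (wσ W) k a b) :
    mapR f ∈ Fil (wσ W) R a b := by
  rw [mem_Fil] at *
  intro α hα
  rw [coeff_mapR] at hα
  exact hf α fun h => hα (by rw [h, map_zero])

lemma spanD_le : spanD W D R ≤ Fil (wσ W) R D (lowB W D) :=
  Submodule.span_le.2 (by rintro _ ⟨f, hf, rfl⟩; exact mapR_mem_Fil W hf.2)

lemma mem_spanD {F : MvPolynomial (Fin n × Fin n) R} (hF : F ∈ Fil (wσ W) R D (lowB W D))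
    (h : presR W F = 0) : F ∈ spanD W D R := by
  classical
  set E := Fil (wσ W) k D (lowB W D)
  let ΦE : E →ₗ[k] A := (pres W).toLinearMap ∘ₗ E.subtype
  obtain ⟨s₀, hs₀⟩ := ΦE.rangeRestrict.exists_rightInverse_of_surjective ΦE.range_rangeRestrict
  obtain ⟨s, hs⟩ := LinearMap.exists_extend s₀
  let L : R ⊗[k] A →ₗ[R] MvPolynomial (Fin n × Fin n) R :=
    LinearMap.liftBaseChange R ((mapR (R := R)).toLinearMap ∘ₗ E.subtype ∘ₗ s)
  suffices hsuff : F - L (presR W F) ∈ spanD W D R by rwa [h, map_zero, sub_zero] at hsuff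
  rw [F.as_sum, map_sum, map_sum, ← Finset.sum_sub_distrib]
  refine sum_mem fun α hα => ?_
  obtain ⟨h1, h2⟩ := (mem_Fil _).1 hF α (mem_support_iff.1 hα)
  have hm : monomial α (1 : k) ∈ E := monomial_mem_Fil _ _ h1 h2
  have hk : monomial α (1 : k) - (s (pres W (monomial α 1)) : MvPolynomial (Fin n × Fin n) k) ∈ kerD W D := by
    refine ⟨?_, sub_mem hm (Subtype.prop _)⟩
    let y : LinearMap.range ΦE := ⟨pres W (monomial α (1 : k)), ⟨⟨_, hm⟩, rfl⟩⟩
    have e1 : s (pres W (monomial α 1)) = s₀ y := LinearMap.congr_fun hs y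
    have e2 : pres W (s₀ y : MvPolynomial (Fin n × Fin n) k) = pres W (monomial α 1) :=
      congrArg Subtype.val (LinearMap.congr_fun hs₀ y)
    rw [← e1] at e2
    rw [SetLike.mem_coe, LinearMap.mem_ker, map_sub, sub_eq_zero]
    exact e2.symm
  have e : monomial α (coeff α F) = coeff α F • mapR (R := R) (monomial α (1 : k)) := by
    rw [mapR_monomial, map_one, smul_monomial, smul_eq_mul, mul_one]
  rw [e, map_smul, map_smul, presR_mapR, LinearMap.liftBaseChange_tmul, one_smul, ← smul_sub]
  refine Submodule.smul_mem _ _ (Submodule.subset_span ⟨_, hk, ?_⟩)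
  rw [map_sub]
  rfl

lemma pres_comp_eq_zero {f : MvPolynomial (Fin n × Fin n) k} (hf : pres W f = 0) (m : ℤ) :
    pres W (comp (wσ W) m f) = 0 := by
  classical
  let θ : A →ₐ[k] LaurentPolynomial k ⊗[k] A :=
    (toConv (Algebra.TensorProduct.includeRight (R := k) (A := LaurentPolynomial k) (B := A)) *
      post (Algebra.TensorProduct.includeLeft (S := k)) (toConv (lam : A →ₐ[k] LaurentPolynomial k))).ofConv
  let e : LaurentPolynomial k ⊗[k] A →ₗ[k] A :=
    (TensorProduct.lid k A).toLinearMap ∘ₗ (lcf m).rTensor A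
  suffices key : ∀ f, e (θ (pres W f)) = pres W (comp (wσ W) m f) by
    rw [← key, hf, map_zero, map_zero]
  intro f
  have hθ : ∀ α, θ (pres W (monomial α 1)) =
      LaurentPolynomial.T (Finsupp.weight (wσ W) α) ⊗ₜ pres W (monomial α 1) := by
    intro α
    induction α using Finsupp.induction with
    | zero => simp [Algebra.TensorProduct.one_def]
    | single_add p d α _ _ ih =>
      rw [← one_mul (1 : k), ← monomial_mul, map_mul, map_mul, ih, map_add,
        LaurentPolynomial.T_add, ← Algebra.TensorProduct.tmul_mul_tmul]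
      congr 1
      rw [← X_pow_eq_monomial, map_pow, map_pow, pres, aeval_X, Finsupp.weight_single, nsmul_eq_mul,
        ← LaurentPolynomial.T_pow, ← Algebra.TensorProduct.tmul_pow]
      congr 1
      change matOf W (toConv (Algebra.TensorProduct.includeRight (R := k) (A := LaurentPolynomial k) (B := A)) *
        post (Algebra.TensorProduct.includeLeft (S := k))
          (toConv (lam : A →ₐ[k] LaurentPolynomial k))) p.1 p.2 = _
      rw [matOf_mul, Matrix.mul_apply, Finset.sum_eq_single p.2]
      · simp [matOf, W.lam_c, wσ]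
      · intro l _ hl; simp [matOf, W.lam_c, hl]
      · simp
  induction f using MvPolynomial.induction_on' with
  | add p q hp hq => simp only [map_add, hp, hq]
  | monomial α r =>
    have hr : monomial α r = r • monomial α (1 : k) := by rw [smul_monomial, smul_eq_mul, mul_one]
    rw [hr]
    simp only [map_smul, hθ]
    congr 1
    simp only [e, LinearMap.comp_apply, LinearMap.rTensor_tmul, lcf_T, LinearEquiv.coe_coe,
      TensorProduct.lid_tmul]
    split_ifs with hm
    · rw [one_smul]
      congr 1
      ext β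
      rw [coeff_weightedHomogeneousComponent, coeff_monomial]
      split_ifs <;> simp_all
    · rw [zero_smul]
      refine ((congrArg (pres W) ?_).trans (map_zero _)).symm
      ext β
      rw [coeff_weightedHomogeneousComponent, coeff_monomial, coeff_zero]
      split_ifs <;> simp_all

lemma comp_mem_spanD {x : MvPolynomial (Fin n × Fin n) R} (hx : x ∈ spanD W D R) (m : ℤ) :
    comp (wσ W) m x ∈ spanD W D R := by
  classical
  suffices spanD W D R ≤ (spanD W D R).comap (comp (wσ W) m) from this hx
  refine Submodule.span_le.2 ?_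
  rintro _ ⟨f, hf, rfl⟩
  refine Submodule.subset_span ⟨comp (wσ W) m f, ⟨pres_comp_eq_zero W hf.1 m, ?_⟩, ?_⟩
  · rw [SetLike.mem_coe, mem_Fil]
    intro α hα
    rw [coeff_weightedHomogeneousComponent] at hα
    split_ifs at hα
    · exact (mem_Fil _).1 hf.2 α hα
    · exact absurd rfl hα
  · ext α
    rw [coeff_mapR, coeff_weightedHomogeneousComponent, coeff_weightedHomogeneousComponent, coeff_mapR,
      apply_ite (algebraMap k R), map_zero]

omit [Algebra k R] in
lemma mem_Fil_lowB {F : MvPolynomial (Fin n × Fin n) R} {b : ℤ} {w' : Fin n × Fin n → ℤ}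
    (hF : F ∈ Fil w' R D b) : F ∈ Fil (wσ W) R D (lowB W D) :=
  (mem_Fil _).2 fun α hα =>
    ⟨((mem_Fil _).1 hF α hα).1, (weight_bound _ ((mem_Fil _).1 hF α hα).1).1⟩

/-- right translation by a point stabilises the equations -/
lemma rho_point_mem_spanD (g : WithConv (A →ₐ[k] R)) {x : MvPolynomial (Fin n × Fin n) R}
    (hx : x ∈ spanD W D R) : rho (matOf W g) x ∈ spanD W D R := by
  suffices spanD W D R ≤ (spanD W D R).comap (rho (matOf W g)).toLinearMap from this hx
  refine Submodule.span_le.2 ?_
  rintro _ ⟨f, hf, rfl⟩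
  refine mem_spanD W D ?_ ?_
  · refine mem_Fil_lowB W D (b := 0) (w' := 0) (map_mem_Fil (0 : Fin n × Fin n → ℤ) (rho (matOf W g)) (fun p => ?_)
      ((mem_Fil _).2 fun α hα =>
      ⟨((mem_Fil _).1 (mapR_mem_Fil W hf.2) α hα).1, by simp [Finsupp.weight_apply]⟩))
    rw [rho_X]
    refine sum_mem fun l _ => ?_
    rw [mul_comm, C_mul_X_eq_monomial]
    exact monomial_mem_Fil _ _ (Finsupp.degree_single _ _).le (by simp [Finsupp.weight_apply])
  · exact (presR_rho_mapR W g f).trans (by rw [show pres W f = 0 from hf.1, map_zero])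

end Span

/-- If a point is a product of triangular matrices, these are points. -/
theorem exists_points_of_decomp [Algebra.FiniteType k A] {R : Type u} [CommRing R] [Algebra k R]
    (g : WithConv (A →ₐ[k] R)) (U P : Matrix (Fin n) (Fin n) R) (hU : IsUniLowerW W U) (hP : IsUpperW W P)
    (h : matOf W g = U * P) : ∃ u p : WithConv (A →ₐ[k] R), matOf W u = U ∧ matOf W p = P := by
  classical
  have hdetP : IsUnit P.det := by
    have := isUnit_det_matOf W g
    rw [h, Matrix.det_mul, hU.det_eq_one, one_mul] at this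
    exact this
  suffices hp : ∃ p : WithConv (A →ₐ[k] R), matOf W p = P by
    obtain ⟨p, hp⟩ := hp
    refine ⟨g * p⁻¹, p, ?_, hp⟩
    calc matOf W (g * p⁻¹) = U * (matOf W p * matOf W p⁻¹) := by
            rw [matOf_mul, h, hp, Matrix.mul_assoc]
      _ = U := by rw [← matOf_mul, mul_inv_cancel, matOf_one, mul_one]
  obtain ⟨gens, hgens⟩ : (RingHom.ker (pres W)).FG := IsNoetherian.noetherian _
  set D := gens.sup MvPolynomial.totalDegree with hD
  set B : ℤ := (D : ℤ) * ∑ p, |wσ W p| with hB
  -- the two translations and their behaviour on the filtration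
  have hPF : ∀ {M : Matrix (Fin n) (Fin n) R}, IsUpperW W M → ∀ {b : ℤ} {x : MvPolynomial (Fin n × Fin n) R},
      x ∈ Fil (wσ W) R D b → rho M x ∈ Fil (wσ W) R D b := by
    refine fun {M} hM {b x} hx => map_mem_Fil _ _ (fun p => ?_) hx
    rw [rho_X]
    refine sum_mem fun l _ => ?_
    by_cases hl : W.w l < W.w p.2
    · rw [hM l p.2 hl, C_0, mul_zero]; exact zero_mem _
    · rw [mul_comm, C_mul_X_eq_monomial]
      exact monomial_mem_Fil _ _ (Finsupp.degree_single _ _).le
        (by simpa [Finsupp.weight_single, wσ] using not_lt.1 hl)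
  have hUF : ∀ {b : ℤ} {x : MvPolynomial (Fin n × Fin n) R}, x ∈ Fil (-wσ W) R D b →
      rho U x - x ∈ Fil (-wσ W) R D (b + 1) := by
    refine fun {b x} hx => map_sub_mem_Fil _ _ (fun p => ?_) hx
    rw [rho_X]
    have : (X p : MvPolynomial (Fin n × Fin n) R) =
        ∑ l, X (p.1, l) * C ((1 : Matrix (Fin n) (Fin n) R) l p.2) := by
      rw [← rho_X, rho_one]
    rw [this, ← Finset.sum_sub_distrib]
    refine sum_mem fun l _ => ?_
    rw [← mul_sub, ← map_sub]
    by_cases hl : W.w l < W.w p.2
    · rw [mul_comm, C_mul_X_eq_monomial]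
      exact monomial_mem_Fil _ _ (Finsupp.degree_single _ _).le
        (by simp [Finsupp.weight_single, wσ]; omega)
    · rw [hU l p.2 hl, sub_self, C_0, mul_zero]; exact zero_mem _
  have hgP : ∀ x, rho U (rho P x) = rho (matOf W g) x := fun x => by rw [← rho_mul, h]
  -- descending induction on the filtration
  have main : ∀ e : ℕ, ∀ x ∈ spanD W D R, x ∈ Fil (wσ W) R D (B + 1 - e) → rho P x ∈ spanD W D R := by
    intro e
    induction e with
    | zero =>
      intro x _ hx
      rw [show x = 0 from ?_, map_zero]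
      · exact zero_mem _
      · ext α
        by_contra hα
        obtain ⟨h1, h2⟩ := (mem_Fil _).1 hx α hα
        have := (weight_bound (wσ W) h1).2
        simp only [Nat.cast_zero, sub_zero] at h2
        omega
    | succ e ih =>
      intro x hxW hx
      set m : ℤ := B - e
      have hm : B + 1 - ((e + 1 : ℕ) : ℤ) = m := by push_cast; omega
      rw [hm] at hx
      have hm1 : m + 1 = B + 1 - (e : ℤ) := by omega
      -- translation by `P` is onto on the part of weight `> m`
      have hsurj : ∀ v ∈ spanD W D R, v ∈ Fil (wσ W) R D (m + 1) →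
          ∃ v' ∈ spanD W D R, v' ∈ Fil (wσ W) R D (m + 1) ∧ rho P v' = v := by
        intro v hvW hv
        haveI := finite_Fil (R := R) (wσ W) D (m + 1)
        let N := Fil (wσ W) R D (m + 1)
        let p : N →ₗ[R] N := (rho P).toLinearMap.restrict fun y hy => hPF hP hy
        have hps : Function.Surjective p := fun y =>
          ⟨⟨rho P⁻¹ y, hPF (hP.inv W hdetP) y.2⟩, Subtype.ext (show rho P (rho P⁻¹ y) = y by
            rw [← rho_mul, Matrix.mul_nonsing_inv P hdetP, rho_one])⟩
        obtain ⟨v', hv'⟩ := hps ⟨v, hv⟩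
        refine ⟨v', ?_, v'.2, congrArg Subtype.val hv'⟩
        exact mem_of_map_mem ((spanD W D R).comap N.subtype) p hps
          (fun y hy => ih y hy (hm1 ▸ y.2)) (x := v')
          (show ((p v' : N) : MvPolynomial (Fin n × Fin n) R) ∈ spanD W D R by rw [hv']; exact hvW)
      -- peel off top components
      have inner : ∀ d : ℕ, ∀ z, z ∈ Fil (wσ W) R D m → z ∈ Fil (-wσ W) R D (-(m + d)) →
          rho U z ∈ spanD W D R → z ∈ spanD W D R := by
        intro d
        induction d with
        | zero =>
          intro z h1 h2 hz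
          simp only [Nat.cast_zero, add_zero] at h2
          have := comp_mem_spanD W D hz m
          rwa [← sub_add_cancel (rho U z) z, map_add, comp_eq_zero _ (hUF h2), zero_add,
            comp_eq_self _ h1 h2] at this
        | succ d ihd =>
          intro z h1 h2 hz
          set M : ℤ := m + (d + 1 : ℕ) with hM
          have hcomp : comp (wσ W) M z ∈ spanD W D R := by
            have := comp_mem_spanD W D hz M
            rwa [← sub_add_cancel (rho U z) z, map_add, comp_eq_zero _ (hUF h2), zero_add] at this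
          obtain ⟨h1', h2'⟩ := sub_comp_mem (wσ W) h1 h2
          obtain ⟨v, hvW, -, hv⟩ := hsurj _ hcomp
            (Fil_mono _ le_rfl (by push_cast [hM]; omega) (comp_mem_Fil _ h1))
          rw [← sub_add_cancel z (comp (wσ W) M z)]
          refine add_mem (ihd _ h1' (Fil_mono _ le_rfl (by push_cast [hM]; omega) h2') ?_) hcomp
          rw [map_sub]
          refine sub_mem hz ?_
          rw [← hv, hgP]
          exact rho_point_mem_spanD W D g hvW
      refine inner e _ (hPF hP hx) ((mem_Fil _).2 fun α hα => ?_) ?_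
      · obtain ⟨h1, -⟩ := (mem_Fil _).1 (hPF hP hx) α hα
        refine ⟨h1, ?_⟩
        rw [weight_neg]
        have := (weight_bound (wσ W) h1).2
        omega
      · rw [hgP]
        exact rho_point_mem_spanD W D g hxW
  -- the equations vanish at `P`
  have hvanish : ∀ f ∈ RingHom.ker (pres W), aeval (fun p : Fin n × Fin n => P p.1 p.2) f = 0 := by
    suffices RingHom.ker (pres W) ≤ RingHom.ker (aeval (R := k) (fun p : Fin n × Fin n => P p.1 p.2)) from
      fun f hf => this hf
    rw [← hgens, Ideal.span_le]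
    intro f hf
    have hk : f ∈ kerD W D := by
      refine ⟨show pres W f = 0 from RingHom.mem_ker.1 (hgens ▸ Ideal.subset_span hf),
        (mem_Fil _).2 fun α hα => ?_⟩
      have h1 := degree_le_of_totalDegree_le (Finset.le_sup (f := MvPolynomial.totalDegree) hf) hα
      exact ⟨h1, (weight_bound _ h1).1⟩
    have hfW : mapR (R := R) f ∈ spanD W D R := Submodule.subset_span ⟨f, hk, rfl⟩
    have hPf := main (2 * B + 1).toNat _ hfW (Fil_mono _ le_rfl (by
      have : (0 : ℤ) ≤ B := mul_nonneg (Int.natCast_nonneg _) (Finset.sum_nonneg fun p _ => abs_nonneg _)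
      rw [lowB, ← hB, Int.toNat_of_nonneg (by omega)]
      omega) (mapR_mem_Fil W hk.2))
    rw [SetLike.mem_coe, RingHom.mem_ker, ← evI_rho_mapR]
    have hker : spanD W D R ≤ LinearMap.ker (evI (R := R) (n := n)).toLinearMap := Submodule.span_le.2 (by
      rintro _ ⟨f', hf', rfl⟩
      show evI (mapR f') = 0
      rw [evI_mapR W, show pres W f' = 0 from hf'.1, map_zero, map_zero])
    exact hker hPf
  refine ⟨toConv ((Ideal.Quotient.liftₐ (RingHom.ker (pres W)) _ hvanish).comp
    (Ideal.quotientKerAlgEquivOfSurjective (pres_surjective W)).symm.toAlgHom), ?_⟩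
  ext i j
  change Ideal.Quotient.liftₐ (RingHom.ker (pres W)) _ hvanish
    ((Ideal.quotientKerAlgEquivOfSurjective (pres_surjective W)).symm (W.c i j)) = P i j
  rw [show W.c i j = Ideal.quotientKerAlgEquivOfSurjective (pres_surjective W)
      (Ideal.Quotient.mk _ (X (i, j))) from
        (show pres W (X (i, j)) = W.c i j from aeval_X _ _).symm, AlgEquiv.symm_apply_apply]
  exact aeval_X _ _

end Groth.Misc1.Dyn
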